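import Groth.Agent.ArtfunDeform.HilbObs.Lci

/-!
Lifting Hilbert points of a regular closed immersion.
-/

set_option linter.style.longLine false

noncomputable section

universe u

open CategoryTheory CategoryTheory.Limits AlgebraicGeometry
open ArtFun ArtFun.Art

namespace Groth.ArtfunDeform.HilbObs

attribute [local instance] Abelian.hasFiniteBiproducts

theorem isEquivalence_pullback {X Y : Scheme.{u}} (e : X ⟶ Y) [IsIso e] :
    (Scheme.Modules.pullback e).IsEquivalence := by
  have hu : IsIso (Scheme.Modules.restrictAdjunction e).unit := by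
    have : ∀ M : Y.Modules, IsIso ((Scheme.Modules.restrictAdjunction e).unit.app M) := fun M => by
      rw [Scheme.Modules.Hom.isIso_iff_isIso_app]
      intro U
      rw [Scheme.Modules.restrictAdjunction_unit_app_app]
      have hU : e ''ᵁ (e ⁻¹ᵁ U) = U := by
        rw [Scheme.Hom.image_preimage_eq_opensRange_inf, Scheme.Hom.opensRange_of_isIso, top_inf_eq]
      have hi : IsIso (homOfLE (Scheme.Hom.image_preimage_le e U)) :=
        ⟨homOfLE hU.ge, Subsingleton.elim _ _, Subsingleton.elim _ _⟩
      exact (M.presheaf).map_isIso (homOfLE (Scheme.Hom.image_preimage_le e U)).op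
    exact NatIso.isIso_of_isIso_app _
  have : (Scheme.Modules.restrictFunctor e).IsEquivalence :=
    (Scheme.Modules.restrictAdjunction e).toEquivalence.isEquivalence_functor
  exact Functor.isEquivalence_of_iso (Scheme.Modules.restrictFunctorIsoPullback e)

variable {k : Type u} [Field k] {X Z : Scheme.{u}} {x : X ⟶ specPt k} (i : Z ⟶ X) [IsClosedImmersion i]

/-- Lifts from the vanishing of the first Ext of the conormal sheaf of the immersion. -/
theorem Problem.exists_lift_of_ext_immersion {n d : ℕ} (P : Problem x i.ker n d) (hloc : P.LocallyLiftable)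
    [HasExt.{u} Z.Modules]
    (h : Subsingleton (Abelian.Ext.{u} (Omega.conormal i) (Coh.structureModule Z) 1)) :
    ∃ ξ : (ArtFun.localHilb X x i.ker).obj P.src, (ArtFun.localHilb X x i.ker).map P.p ξ = P.pt := by
  rw [P.exists_lift_iff_section]
  obtain ⟨e, he, heι⟩ : ∃ e : Z ⟶ i.ker.subscheme, IsIso e ∧ e ≫ i.ker.subschemeι = i :=
    ⟨i.toImage, inferInstance, i.toImage_imageι⟩
  have := he
  let F := Scheme.Modules.pullback e
  have hF : F.IsEquivalence := isEquivalence_pullback e
  have : PreservesFiniteLimits F := inferInstance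
  have : PreservesFiniteColimits F := inferInstance
  have : F.Additive := (Scheme.Modules.pullbackPushforwardAdjunction e).left_adjoint_additive
  have hS := (P.shortExact_seqY hloc).map_of_exact F
  let e₁ : Omega.conormal i ≅ F.obj ((Scheme.Modules.pullback i.ker.subschemeι).obj (ClSub.idealMod i.ker)) :=
    (Scheme.Modules.pullbackCongr heι.symm).app (ClSub.idealMod i.ker) ≪≫
      ((Scheme.Modules.pullbackComp e i.ker.subschemeι).app (ClSub.idealMod i.ker)).symm
  have hext := subsingleton_ext_congr e₁ (Coh.structureModule Z) h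
  have hu : IsIso (Groth.PicAux.pullUnit e) := Groth.PicAux.isIso_pullUnit e
  have : ∀ l, ∃ φ : P.extY ⟶ Coh.structureModule i.ker.subscheme, P.tauY ≫ φ = biproduct.π _ l := fun l => by
    let x₁ : F.obj (⨁ fun _ : Fin n => Coh.structureModule i.ker.subscheme) ⟶ Coh.structureModule Z :=
      F.map (biproduct.π _ l) ≫ Groth.PicAux.pullUnit e
    obtain ⟨x₂, hx₂⟩ := Abelian.Ext.contravariant_sequence_exact₁ hS
      (Y := Coh.structureModule Z) (n₀ := 0) (n₁ := 1) (Abelian.Ext.mk₀ x₁) (by rfl) (hext.elim _ _)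
    obtain ⟨φ', rfl⟩ := (Abelian.Ext.mk₀_bijective _ _).2 x₂
    rw [Abelian.Ext.mk₀_comp_mk₀] at hx₂
    have e2 : F.map P.tauY ≫ φ' = x₁ := (Abelian.Ext.mk₀_bijective _ _).1 hx₂
    refine ⟨F.preimage (φ' ≫ inv (Groth.PicAux.pullUnit e)), F.map_injective ?_⟩
    rw [F.map_comp, F.map_preimage]
    refine (Category.assoc _ _ _).symm.trans ((congrArg (· ≫ _) e2).trans ?_)
    simp only [x₁, Category.assoc, IsIso.hom_inv_id, Category.comp_id]
  choose φ hφ using this
  exact ⟨biproduct.lift φ, biproduct.hom_ext _ _ fun l => by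
    rw [Category.assoc, biproduct.lift_π, hφ, Category.id_comp]⟩

theorem isFinLocFree_conormal_immersion (hreg : Mor2.IsRegularClosedImmersion i) :
    FlatMod.IsFinLocFree (Omega.conormal i) := by
  refine Groth.KoszulLCI.isFinLocFree_conormal i fun z => ?_
  obtain ⟨U, hU, hz, rs, hrs, hI⟩ := hreg.2 z
  refine ⟨⟨U, hU⟩, hz, inferInstance, rs, ?_, ?_⟩
  · exact Groth.KoszulLCI.seq_h1_of_koszul (Groth.KoszulLCI.seq_koszul_of_regular hrs)
  · rw [← hI, Scheme.Hom.ker_apply]

theorem isRegularClosedImmersion_kerι (hreg : Mor2.IsRegularClosedImmersion i) :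
    Mor2.IsRegularClosedImmersion i.ker.subschemeι := by
  refine ⟨inferInstance, fun z => ?_⟩
  obtain ⟨z', rfl⟩ := i.toImage.surjective z
  obtain ⟨U, hU, hz, rs, hrs, hI⟩ := hreg.2 z'
  refine ⟨U, hU, ?_, rs, hrs, ?_⟩
  · have h1 : i.ker.subschemeι (i.toImage z') = i z' :=
      (Scheme.Hom.comp_apply i.toImage i.ker.subschemeι z').symm.trans
        (by rw [show i.toImage ≫ i.ker.subschemeι = i from i.toImage_imageι])
    exact h1 ▸ hz
  · rw [i.ker.ker_subschemeι, hI]

theorem subsingleton_ext_immersion [HasExt.{u} Z.Modules] [DCoh.HasSheafHom (Omega.conormal i)]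
    (hreg : Mor2.IsRegularClosedImmersion i) [Z.Over (specPt k)]
    (h1 : Subsingleton (Coh.HH Z ((DCoh.sheafHom (Omega.conormal i)).obj (Coh.structureModule Z)) 1)) :
    Subsingleton (Abelian.Ext.{u} (Omega.conormal i) (Coh.structureModule Z) 1) := by
  obtain ⟨e⟩ := Groth.Duality.SheafHom.nonempty_ext_linearEquiv (A := k) _ (isFinLocFree_conormal_immersion i hreg) 1
    (Coh.structureModule Z)
  exact e.toEquiv.subsingleton

/-- A regular closed immersion with vanishing first Ext of the conormal sheaf is unobstructed. -/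
theorem isSmoothFunctor_of_ext_immersion [HasExt.{u} Z.Modules] (hreg : Mor2.IsRegularClosedImmersion i)
    (h : Subsingleton (Abelian.Ext.{u} (Omega.conormal i) (Coh.structureModule Z) 1)) :
    IsSmoothFunctor (ArtFun.localHilb X x i.ker) := by
  intro B A μ hμ
  refine surj_induction (P := fun A B μ => Function.Surjective ((ArtFun.localHilb X x i.ker).map μ)) ?_ ?_ ?_ μ hμ
  · intro A B e _
    exact (bijective_map_of_isIso _ e).2
  · intro A B p hp ξ
    exact (probOf p hp.isSemismallExt ξ).exists_lift_of_ext_immersion i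
      ((probOf p hp.isSemismallExt ξ).locallyLiftable_of_regular (isRegularClosedImmersion_kerι i hreg)) h
  · intro A B C p q hp hq ξ
    obtain ⟨η, rfl⟩ := hq ξ
    obtain ⟨ζ, rfl⟩ := hp η
    exact ⟨ζ, (map_map _ p q ζ).symm⟩

end Groth.ArtfunDeform.HilbObs
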