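import Groth.Agent.ArtfunDeform.HilbObs.Criterion
import Groth.Agent.PicAux.Pullback
import Groth.Agent.DegMono.Torsion
import Mathlib.RingTheory.TensorProduct.Quotient
import Mathlib.RingTheory.Flat.Stability

/-!
The extension of the conormal sheaf attached to a lifting problem, and local lifts.
-/

set_option linter.style.longLine false

noncomputable section

universe u

open CategoryTheory CategoryTheory.Limits AlgebraicGeometry
open ArtFun ArtFun.Art

namespace Groth.ArtfunDeform.HilbObs.Problem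

open HilbAffine HilbGlue HilbTangent
open Groth.PicAux (resX res app_res)
open scoped TensorProduct

attribute [local instance] Abelian.hasFiniteBiproducts

local notation "𝔪" => IsLocalRing.maximalIdeal

variable {k : Type u} [Field k] {X : Scheme.{u}} {x : X ⟶ specPt k} {I₀ : X.IdealSheafData}
variable {n d : ℕ} {P : Problem x I₀ n d}

theorem flat_map_quotient {B S S' : Type u} [CommRing B] [CommRing S] [CommRing S'] (φ : B →+* S)
    (r : S →+* S') (hr : r.Flat) (K : Ideal S) (hK : ((Ideal.Quotient.mk K).comp φ).Flat) :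
    ((Ideal.Quotient.mk (K.map r)).comp (r.comp φ)).Flat := by
  let _ : Algebra S S' := r.toAlgebra
  have : Module.Flat S S' := hr
  let e : (S ⧸ K) ⊗[S] S' ≃+* S' ⧸ K.map r :=
    (Algebra.TensorProduct.comm S (S ⧸ K) S').toRingEquiv.trans
      (Algebra.TensorProduct.quotIdealMapEquivTensorQuot S' K).symm.toRingEquiv
  have h1 : (Algebra.TensorProduct.includeLeftRingHom : (S ⧸ K) →+* (S ⧸ K) ⊗[S] S').Flat := by
    let g : (S ⧸ K) →+* (S ⧸ K) ⊗[S] S' := algebraMap (S ⧸ K) _
    have : g.Flat := RingHom.flat_algebraMap_iff.2 inferInstance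
    exact this
  have h2 := RingHom.Flat.comp (RingHom.Flat.comp hK h1) (RingHom.Flat.of_bijective (f := e.toRingHom) e.bijective)
  have h3 : e.toRingHom.comp (Algebra.TensorProduct.includeLeftRingHom.comp ((Ideal.Quotient.mk K).comp φ)) =
      (Ideal.Quotient.mk (K.map r)).comp (r.comp φ) := by
    ext b
    change (Algebra.TensorProduct.quotIdealMapEquivTensorQuot S' K).symm
      ((1 : S') ⊗ₜ[S] Ideal.Quotient.mk K (φ b)) = Ideal.Quotient.mk (K.map r) (r (φ b))
    rw [AlgEquiv.symm_apply_eq]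
    have h4 : (1 : S') ⊗ₜ[S] Ideal.Quotient.mk K (φ b) = r (φ b) ⊗ₜ[S] (1 : S ⧸ K) := by
      rw [show Ideal.Quotient.mk K (φ b) = φ b • (1 : S ⧸ K) from (Algebra.algebraMap_eq_smul_one _),
        ← TensorProduct.smul_tmul]
      exact congrArg (· ⊗ₜ[S] (1 : S ⧸ K)) ((Algebra.smul_def (R := S) (A := S') (φ b) 1).trans (mul_one _))
    exact h4
  rwa [h3] at h2

theorem flat_res {V W : (XA x P.src).Opens} (hV : IsAffineOpen V) (hW : IsAffineOpen W) (h : W ≤ V) :
    (resX (XA x P.src) h).Flat :=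
  Scheme.Hom.flat_appLE (𝟙 (XA x P.src)) hV hW h

theorem red_res {A B : Art k k} (p : A ⟶ B) {U W : X.affineOpens} (h : W.1 ≤ U.1) (s : Sec x A U) :
    red x p W (resX _ (pre_mono x A h) s) = resX _ (pre_mono x B h) (red x p U s) := by
  have e1 := ConcreteCategory.congr_hom (Scheme.Hom.map_appLE (XAmap x p)
    (e := (map_pre x p W).ge) (i := (homOfLE (pre_mono x A h)).op)) s
  have e2 := ConcreteCategory.congr_hom (Scheme.Hom.appLE_map (XAmap x p)
    (e := (map_pre x p U).ge) (i := (homOfLE (pre_mono x B h)).op)) s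
  exact e1.trans e2.symm

/-- A lift restricts to smaller charts. -/
def ChartLift.restrict {U W : X.affineOpens} (L : P.ChartLift U) (h : W.1 ≤ U.1) : P.ChartLift W where
  K := L.K.map (resX _ (pre_mono x P.src h))
  flat := by
    have := flat_map_quotient (coef x P.src U) (resX _ (pre_mono x P.src h))
      (flat_res (pre x P.src U).2 (pre x P.src W).2 _) L.K L.flat
    rwa [show (resX _ (pre_mono x P.src h)).comp (coef x P.src U) = coef x P.src W from
      RingHom.ext fun c => coef_res' x P.src h c] at this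
  map_red := by
    rw [Ideal.map_map, show (red x P.p W).comp (resX _ (pre_mono x P.src h)) =
      (resX _ (pre_mono x P.tgt h)).comp (red x P.p U) from RingHom.ext fun s => red_res P.p h s,
      ← Ideal.map_map, L.map_red]
    exact Scheme.IdealSheafData.map_ideal P.pt.1 (U := pre x P.tgt W) (V := pre x P.tgt U) (pre_mono x P.tgt h)

/-- The closed subscheme. -/
abbrev Ysch (I₀ : X.IdealSheafData) : Scheme.{u} := I₀.subscheme

/-- The open of the closed subscheme over an open. -/
abbrev opY (I₀ : X.IdealSheafData) (U : X.Opens) : I₀.subscheme.Opens := I₀.subschemeι ⁻¹ᵁ U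

/-- Functions near a chart, as a module on the closed subscheme. -/
abbrev locMod (I₀ : X.IdealSheafData) (U : X.Opens) : I₀.subscheme.Modules :=
  (Scheme.Modules.pushforward (opY I₀ U).ι).obj
    ((Scheme.Modules.restrictFunctor (opY I₀ U).ι).obj (Coh.structureModule I₀.subscheme))

/-- Restriction to the functions near a chart. -/
abbrev locUnit (I₀ : X.IdealSheafData) (U : X.Opens) : Coh.structureModule I₀.subscheme ⟶ locMod I₀ U :=
  (Scheme.Modules.restrictAdjunction (opY I₀ U).ι).unit.app (Coh.structureModule I₀.subscheme)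

theorem opY_le (U V : X.Opens) :
    (opY I₀ U).ι ''ᵁ ((opY I₀ U).ι ⁻¹ᵁ (I₀.subschemeι ⁻¹ᵁ V)) ≤ I₀.subschemeι ⁻¹ᵁ (V ⊓ U) := by
  rw [Scheme.Hom.image_preimage_eq_opensRange_inf, Scheme.Opens.opensRange_ι]
  exact le_of_eq (inf_comm _ _)

/-- A section on the part of `V` inside the chart as a section of the push-forward. -/
def toLoc {U V : X.Opens} (z : Γ(ClSub.quotMod I₀, V ⊓ U)) :
    Γ((Scheme.Modules.pushforward I₀.subschemeι).obj (locMod I₀ U), V) :=
  res (Coh.structureModule I₀.subscheme) (opY_le U V) z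

theorem toLoc_add {U V : X.Opens} (z z' : Γ(ClSub.quotMod I₀, V ⊓ U)) : toLoc (z + z') = toLoc z + toLoc z' :=
  Groth.PicAux.res_add _ _ _

theorem toLoc_smul {U V : X.Opens} (c : Γ(X, V)) (z : Γ(ClSub.quotMod I₀, V ⊓ U)) :
    toLoc (resX X (inf_le_left : V ⊓ U ≤ V) c • z) = c • toLoc z := by
  refine (Groth.PicAux.res_smul (M := Coh.structureModule I₀.subscheme) (opY_le U V) _ z).trans ?_
  refine congrArg (fun r => r • res (Coh.structureModule I₀.subscheme) (opY_le U V) z) ?_
  have e1 := ConcreteCategory.congr_hom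
    (I₀.subschemeι.naturality (homOfLE (inf_le_left : V ⊓ U ≤ V)).op) c
  refine (congrArg (resX I₀.subscheme (opY_le U V)) e1).trans ?_
  have e2 := ConcreteCategory.congr_hom (Scheme.Hom.app_appIso_inv (opY I₀ U).ι (I₀.subschemeι ⁻¹ᵁ V))
    (I₀.subschemeι.app V c)
  exact (Groth.PicAux.resX_resX _ (opY_le U V) _).trans e2.symm

theorem toLoc_res {U V W : X.Opens} (h : W ≤ V) (z : Γ(ClSub.quotMod I₀, V ⊓ U)) :
    res ((Scheme.Modules.pushforward I₀.subschemeι).obj (locMod I₀ U)) h (toLoc z) =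
      toLoc (res (ClSub.quotMod I₀) (inf_le_inf_right U h) z) := by
  exact (Groth.PicAux.res_res (M := Coh.structureModule I₀.subscheme) _ _ z).trans
    (Groth.PicAux.res_res (M := Coh.structureModule I₀.subscheme) _ _ z).symm

theorem exists_locRetr {U : X.affineOpens} (L : P.ChartLift U) (l : Fin n) :
    ∃ r : P.bigMod ⟶ (Scheme.Modules.pushforward I₀.subschemeι).obj (locMod I₀ U.1),
      (∀ i, P.coefHom (P.m i) ≫ r = 0) ∧
      ∀ j, P.kerHom j ≫ r =
        if j = l then ClSub.toSubscheme I₀ ≫ (Scheme.Modules.pushforward I₀.subschemeι).map (locUnit I₀ U.1) else 0 := by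
  have hcov : ∀ V : X.Opens, V ⊓ U.1 ≤ ⨆ W : {W : X.affineOpens // W.1 ≤ V ⊓ U.1}, W.1.1 := fun V z hz => by
    obtain ⟨_, ⟨W, hW, rfl⟩, hzW, hWV⟩ := X.isBasis_affineOpens.exists_subset_of_mem_open hz (V ⊓ U.1).2
    exact TopologicalSpace.Opens.mem_iSup.2 ⟨⟨⟨W, hW⟩, hWV⟩, hzW⟩
  let R : ∀ (W : X.affineOpens) (h : W.1 ≤ U.1), P.ChartLift W := fun W h => L.restrict h
  have hR : ∀ (W W' : X.affineOpens) (h : W.1 ≤ U.1) (h' : W'.1 ≤ U.1) (e : W'.1 ≤ W.1),
      ∀ g ∈ (R W h).K, resX _ (pre_mono x P.src e) g ∈ (R W' h').K := by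
    intro W W' h h' e g hg
    have := Ideal.mem_map_of_mem (resX _ (pre_mono x P.src e)) hg
    change _ ∈ Ideal.map _ (L.K.map _) at this
    rw [Ideal.map_map] at this
    change _ ∈ L.K.map _
    rwa [show (resX _ (pre_mono x P.src e)).comp (resX _ (pre_mono x P.src h)) = resX _ (pre_mono x P.src h') from
      RingHom.ext fun s => Groth.PicAux.resX_resX _ _ s] at this
  have key : ∀ (V : X.Opens) (a : Γ(P.bigMod, V)), ∃! y : Γ(ClSub.quotMod I₀, V ⊓ U.1),
      ∀ W : {W : X.affineOpens // W.1 ≤ V ⊓ U.1},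
        res (ClSub.quotMod I₀) W.2 y = (R W.1 (W.2.trans inf_le_right)).retr l (res P.bigMod (W.2.trans inf_le_left) a) := by
    intro V a
    refine Groth.PicAux.res_glue (fun W : {W : X.affineOpens // W.1 ≤ V ⊓ U.1} => W.1.1) (fun W => W.2) (hcov V) _
      fun W W' => ?_
    refine Groth.PicAux.res_ext (fun T : {T : X.affineOpens // T.1 ≤ W.1.1 ⊓ W'.1.1} => T.1.1) (fun T => T.2) ?_ fun T => ?_
    · intro z hz
      obtain ⟨_, ⟨T, hT, rfl⟩, hzT, hTV⟩ := X.isBasis_affineOpens.exists_subset_of_mem_open hz (W.1.1 ⊓ W'.1.1).2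
      exact TopologicalSpace.Opens.mem_iSup.2 ⟨⟨⟨T, hT⟩, hTV⟩, hzT⟩
    have hW : T.1.1 ≤ W.1.1 := T.2.trans inf_le_left
    have hW' : T.1.1 ≤ W'.1.1 := T.2.trans inf_le_right
    have hT : T.1.1 ≤ U.1 := (hW.trans W.2).trans inf_le_right
    rw [Groth.PicAux.res_res, Groth.PicAux.res_res, (R W.1 _).retr_res (R T.1 hT) hW (hR _ _ _ hT hW) l,
      (R W'.1 _).retr_res (R T.1 hT) hW' (hR _ _ _ hT hW') l, Groth.PicAux.res_res, Groth.PicAux.res_res]
  choose y hy huniq using key
  obtain ⟨r, hr⟩ := Groth.LocFree.exists_hom_of_affine (L := P.bigMod)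
    (M := (Scheme.Modules.pushforward I₀.subschemeι).obj (locMod I₀ U.1))
    (fun V _ =>
    { toFun := fun a => toLoc (y V a)
      map_add' := fun a b => by
        rw [← toLoc_add]
        refine congrArg toLoc (huniq V _ _ fun W => ?_).symm
        rw [Groth.PicAux.res_add, hy, hy, Groth.PicAux.res_add, ChartLift.retr_add]
      map_smul' := fun c a => by
        rw [RingHom.id_apply, ← toLoc_smul]
        refine congrArg toLoc (huniq V _ _ fun W => ?_).symm
        rw [Groth.PicAux.res_smul, hy, Groth.PicAux.res_smul, ChartLift.retr_smul, Groth.PicAux.resX_resX] })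
    (fun V V' hV hV' h a => by
      refine (toLoc_res h _).trans (congrArg toLoc (huniq V' _ _ fun W => ?_))
      rw [Groth.PicAux.res_res, Groth.PicAux.res_res]
      exact hy V a ⟨W.1, W.2.trans (inf_le_inf_right _ h)⟩)
  refine ⟨r, fun i => hom_ext_affine fun V a => ?_, fun j => hom_ext_affine fun V a => ?_⟩
  · refine (hr V.1 V.2 _).trans ?_
    have h0 : y V.1 ((P.coefHom (P.m i)).app V.1 a) = 0 := (huniq V.1 _ 0 fun W => by
      rw [Groth.PicAux.res_zero, ← app_res, ChartLift.retr_coefHom]).symm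
    exact (congrArg toLoc h0).trans (Groth.PicAux.res_zero _)
  · refine (hr V.1 V.2 _).trans ?_
    have h0 : y V.1 ((P.kerHom j).app V.1 a) =
        res (ClSub.quotMod I₀) (inf_le_left : V.1 ⊓ U.1 ≤ V.1) (if j = l then (ClSub.toSubscheme I₀).app V.1 a else 0) :=
      (huniq V.1 _ _ fun W => by
        rw [← app_res, ChartLift.retr_kerHom]
        split_ifs
        · rw [Groth.PicAux.res_res, ← app_res]
          rfl
        · rw [Groth.PicAux.res_zero, Groth.PicAux.res_zero]).symm
    refine (congrArg toLoc h0).trans ?_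
    split_ifs
    · exact Groth.PicAux.res_res (M := Coh.structureModule I₀.subscheme) _ _ _
    · exact (congrArg toLoc (Groth.PicAux.res_zero _)).trans (Groth.PicAux.res_zero _)

section Sub

variable (P)

local notation "ιY" => I₀.subschemeι
local notation "Pull" => Scheme.Modules.pullback I₀.subschemeι
local notation "adj" => Scheme.Modules.pullbackPushforwardAdjunction I₀.subschemeι

/-- The extension of the conormal sheaf. -/
abbrev extY : I₀.subscheme.Modules := (Scheme.Modules.pullback I₀.subschemeι).obj P.ext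

/-- The comparison of the structure sheaves. -/
abbrev unitY : (Scheme.Modules.pullback I₀.subschemeι).obj (Coh.structureModule X) ⟶ Coh.structureModule I₀.subscheme :=
  Groth.PicAux.pullUnit I₀.subschemeι

theorem homEquiv_unitY : (adj).homEquiv _ _ (unitY (I₀ := I₀)) = ClSub.toSubscheme I₀ :=
  ((adj).homEquiv_unit _ _ _).trans (Groth.PicAux.unit_pullUnit I₀.subschemeι)

instance isIso_unitY : IsIso (unitY (I₀ := I₀)) := Groth.PicAux.isIso_pullUnit _

/-- A kernel element inside the extension of the conormal sheaf. -/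
def tauY₁ (j : Fin n) : Coh.structureModule I₀.subscheme ⟶ P.extY :=
  inv (unitY (I₀ := I₀)) ≫ (Pull).map (P.kerHom j ≫ P.proj)

/-- The kernel inside the extension of the conormal sheaf. -/
def tauY : (⨁ fun _ : Fin n => Coh.structureModule I₀.subscheme) ⟶ P.extY := biproduct.desc P.tauY₁

theorem tauY₁_comp_iff (j : Fin n) {Z : I₀.subscheme.Modules} (φ : P.extY ⟶ Z)
    (ψ : Coh.structureModule I₀.subscheme ⟶ Z) :
    P.tauY₁ j ≫ φ = ψ ↔ P.kerHom j ≫ P.proj ≫ (adj).homEquiv _ _ φ =
      ClSub.toSubscheme I₀ ≫ (Scheme.Modules.pushforward I₀.subschemeι).map ψ := by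
  rw [tauY₁, Category.assoc, IsIso.inv_comp_eq, ← ((adj).homEquiv _ _).injective.eq_iff,
    Adjunction.homEquiv_naturality_left, Adjunction.homEquiv_naturality_right, homEquiv_unitY, Category.assoc]

/-- The projection of the extension onto the conormal sheaf. -/
abbrev fstY : P.extY ⟶ (Scheme.Modules.pullback I₀.subschemeι).obj (ClSub.idealMod I₀) := (Pull).map P.fst

theorem homEquiv_fstY_comp {Z : I₀.subscheme.Modules} (φ : (Pull).obj (ClSub.idealMod I₀) ⟶ Z) :
    (adj).homEquiv _ _ (P.fstY ≫ φ) = P.fst ≫ (adj).homEquiv _ _ φ :=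
  Adjunction.homEquiv_naturality_left _ _ _

theorem tauY_fstY : P.tauY ≫ P.fstY = 0 := biproduct.hom_ext' _ _ fun j => by
  rw [tauY, biproduct.ι_desc_assoc, comp_zero, tauY₁, Category.assoc, ← Functor.map_comp, Category.assoc,
    proj_fst, kerHom_fibHom]
  have : (Pull).Additive := (adj).left_adjoint_additive
  rw [Functor.map_zero, comp_zero]

theorem exists_descY {Z : I₀.subscheme.Modules} (ψ : P.extY ⟶ Z) (h : P.tauY ≫ ψ = 0) :
    ∃ φ, P.fstY ≫ φ = ψ := by
  have : (Scheme.Modules.pushforward I₀.subschemeι).Additive := (adj).right_adjoint_additive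
  obtain ⟨φ, hφ⟩ := P.exists_desc_ext ((adj).homEquiv _ _ ψ) (biproduct.hom_ext' _ _ fun j => by
    have hj : P.tauY₁ j ≫ ψ = 0 := by
      have := congrArg (biproduct.ι (fun _ : Fin n => Coh.structureModule I₀.subscheme) j ≫ ·) h
      simpa only [tauY, biproduct.ι_desc_assoc, comp_zero] using this
    rw [← Category.assoc, ι_tau, Category.assoc, (P.tauY₁_comp_iff j ψ 0).1 hj, Functor.map_zero, comp_zero, comp_zero])
  refine ⟨((adj).homEquiv _ _).symm φ, ((adj).homEquiv _ _).injective ?_⟩
  rw [homEquiv_fstY_comp, Equiv.apply_symm_apply, hφ]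

theorem fstY_ext {Z : I₀.subscheme.Modules} {φ φ' : (Pull).obj (ClSub.idealMod I₀) ⟶ Z}
    (h : P.fstY ≫ φ = P.fstY ≫ φ') : φ = φ' := by
  refine ((adj).homEquiv _ _).injective (P.fibHom_ext ?_)
  rw [← proj_fst, Category.assoc, Category.assoc, ← homEquiv_fstY_comp, ← homEquiv_fstY_comp, h]

/-- The conormal sheaf is the cokernel of the kernel in the extension. -/
def isColimitY : IsColimit (CokernelCofork.ofπ P.fstY P.tauY_fstY) :=
  CokernelCofork.IsColimit.ofπ _ _ (fun ψ h => (P.exists_descY ψ h).choose)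
    (fun ψ h => (P.exists_descY ψ h).choose_spec)
    (fun ψ h φ hφ => P.fstY_ext (by rw [hφ, (P.exists_descY ψ h).choose_spec]))

/-- The short complex of the extension of the conormal sheaf. -/
abbrev seqY : ShortComplex I₀.subscheme.Modules := ShortComplex.mk P.tauY P.fstY P.tauY_fstY

instance epi_fstY : Epi P.fstY := ⟨fun _ _ h => P.fstY_ext h⟩

theorem seqY_exact : P.seqY.Exact := ShortComplex.exact_of_g_is_cokernel _ P.isColimitY

/-- Lifts are the splittings of the extension of the conormal sheaf. -/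
theorem exists_lift_iff_section :
    (∃ ξ : (ArtFun.localHilb X x I₀).obj P.src, (ArtFun.localHilb X x I₀).map P.p ξ = P.pt) ↔
      ∃ φ : P.extY ⟶ ⨁ fun _ : Fin n => Coh.structureModule I₀.subscheme, P.tauY ≫ φ = 𝟙 _ := by
  classical
  have : (Scheme.Modules.pushforward I₀.subschemeι).Additive := (adj).right_adjoint_additive
  rw [exists_lift_iff_retr]
  constructor
  · rintro ⟨r, hm, ht⟩
    choose g hg using fun l => P.exists_extDesc (r l) (hm l)
    refine ⟨biproduct.lift fun l => ((adj).homEquiv _ _).symm (g l), ?_⟩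
    refine biproduct.hom_ext' _ _ fun j => biproduct.hom_ext _ _ fun l => ?_
    rw [Category.assoc, Category.assoc, biproduct.lift_π, tauY, biproduct.ι_desc_assoc, Category.comp_id,
      biproduct.ι_π, (P.tauY₁_comp_iff j _ _), Equiv.apply_symm_apply, hg, ht]
    split_ifs with h
    · subst h
      rw [eqToHom_refl, CategoryTheory.Functor.map_id, Category.comp_id]
    · rw [Functor.map_zero, comp_zero]
  · rintro ⟨φ, hφ⟩
    refine ⟨fun l => P.proj ≫ (adj).homEquiv _ _ (φ ≫ biproduct.π _ l), fun l i => ?_, fun l j => ?_⟩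
    · rw [← Category.assoc, coefHom_proj, zero_comp]
    · have h1 : P.tauY₁ j ≫ φ ≫ biproduct.π _ l =
          biproduct.ι (fun _ : Fin n => Coh.structureModule I₀.subscheme) j ≫ biproduct.π _ l := by
        rw [← biproduct.ι_desc P.tauY₁ j, Category.assoc, ← tauY, reassoc_of% hφ]
      rw [(P.tauY₁_comp_iff j _ _).1 h1, biproduct.ι_π]
      split_ifs with h
      · subst h
        rw [eqToHom_refl, CategoryTheory.Functor.map_id, Category.comp_id]
      · rw [Functor.map_zero, comp_zero]

/-- Lifts exist near every point. -/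
def LocallyLiftable : Prop := ∀ y : I₀.subscheme, ∃ U : X.affineOpens, I₀.subschemeι y ∈ U.1 ∧ Nonempty (P.ChartLift U)

theorem exists_locSection {U : X.affineOpens} (L : P.ChartLift U) (l : Fin n) :
    ∃ φ : P.extY ⟶ locMod I₀ U.1, P.tauY ≫ φ = biproduct.π _ l ≫ locUnit I₀ U.1 := by
  classical
  have : (Scheme.Modules.pushforward I₀.subschemeι).Additive := (adj).right_adjoint_additive
  obtain ⟨r, hm, ht⟩ := exists_locRetr L l
  obtain ⟨g, hg⟩ := P.exists_extDesc r hm
  refine ⟨((adj).homEquiv _ _).symm g, biproduct.hom_ext' _ _ fun j => ?_⟩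
  rw [tauY, biproduct.ι_desc_assoc, P.tauY₁_comp_iff, Equiv.apply_symm_apply, hg, ht, biproduct.ι_π_assoc]
  split_ifs with h
  · subst h
    rw [eqToHom_refl, Category.id_comp]
  · rw [zero_comp, Functor.map_zero, comp_zero]

/-- With lifts near every point the kernel injects into the extension. -/
theorem mono_tauY (hloc : P.LocallyLiftable) : Mono P.tauY := by
  refine Preadditive.mono_of_cancel_zero _ fun {Z} g hg => biproduct.hom_ext _ _ fun l => ?_
  rw [zero_comp]
  refine Groth.CohTwo.hom_ext_app fun V s => Groth.CohTwo.eq_of_local _ _ _ fun y hy => ?_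
  obtain ⟨U, hyU, ⟨L⟩⟩ := hloc y
  obtain ⟨φ, hφ⟩ := P.exists_locSection L l
  have h : (g ≫ biproduct.π _ l) ≫ locUnit I₀ U.1 = 0 := by
    rw [Category.assoc, ← hφ, reassoc_of% hg, zero_comp]
  have h' := congr(($h).app V s)
  refine ⟨(opY I₀ U.1).ι ''ᵁ ((opY I₀ U.1).ι ⁻¹ᵁ V), Scheme.Hom.image_preimage_le _ _, ?_, ?_⟩
  · rw [Scheme.Hom.image_preimage_eq_opensRange_inf, Scheme.Opens.opensRange_ι]
    exact ⟨hyU, hy⟩
  · exact h'.trans (map_zero _).symm

theorem shortExact_seqY (hloc : P.LocallyLiftable) : P.seqY.ShortExact :=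
  { exact := P.seqY_exact, mono_f := P.mono_tauY hloc, epi_g := P.epi_fstY }

/-- With lifts near every point and no first Ext of the conormal sheaf, a lift exists. -/
theorem exists_lift_of_ext (hloc : P.LocallyLiftable) [HasExt.{u} I₀.subscheme.Modules]
    (h : Subsingleton (Abelian.Ext.{u} ((Scheme.Modules.pullback I₀.subschemeι).obj (ClSub.idealMod I₀))
      (Coh.structureModule I₀.subscheme) 1)) :
    ∃ ξ : (ArtFun.localHilb X x I₀).obj P.src, (ArtFun.localHilb X x I₀).map P.p ξ = P.pt := by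
  rw [exists_lift_iff_section]
  have hS := P.shortExact_seqY hloc
  have : ∀ l, ∃ φ : P.extY ⟶ Coh.structureModule I₀.subscheme, P.tauY ≫ φ = biproduct.π _ l := fun l => by
    obtain ⟨x₂, hx₂⟩ := Abelian.Ext.contravariant_sequence_exact₁ hS
      (Y := Coh.structureModule I₀.subscheme) (n₀ := 0) (n₁ := 1) (Abelian.Ext.mk₀ (biproduct.π _ l)) (by rfl)
      (Subsingleton.elim _ _)
    obtain ⟨φ, rfl⟩ := (Abelian.Ext.mk₀_bijective _ _).2 x₂
    rw [Abelian.Ext.mk₀_comp_mk₀] at hx₂
    exact ⟨φ, (Abelian.Ext.mk₀_bijective _ _).1 hx₂⟩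
  choose φ hφ using this
  exact ⟨biproduct.lift φ, biproduct.hom_ext _ _ fun l => by
    rw [Category.assoc, biproduct.lift_π, hφ, Category.id_comp]⟩

end Sub

end Groth.ArtfunDeform.HilbObs.Problem
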