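import Groth.Agent.ArtfunDeform.HilbObs.Conormal
import Groth.Agent.ArtfunDeform.RegFlat
import Groth.Agent.ArtfunDeform.Schlessinger
import Groth.Agent.KoszulLCI.ConormalFree
import Groth.Agent.KoszulLCI.Kinds
import Groth.Agent.Duality.SheafHomExt
import Groth.Prelude.Def_Mor2

/-!
Local complete intersections deform locally; lifting when the first Ext of the conormal sheaf vanishes.
-/

set_option linter.style.longLine false

noncomputable section

universe u

open CategoryTheory CategoryTheory.Limits AlgebraicGeometry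
open ArtFun ArtFun.Art
open RingTheory.Sequence

namespace Groth.ArtfunDeform.HilbObs

open HilbAffine HilbGlue HilbTangent

local notation "𝔪" => IsLocalRing.maximalIdeal

variable {k : Type u} [Field k] {X : Scheme.{u}} {x : X ⟶ specPt k} {I₀ : X.IdealSheafData}

theorem le_span_of_le_sup_mul {S : Type u} [CommRing S] {K A M : Ideal S} (hM : IsNilpotent M)
    (h : K ≤ A ⊔ M * K) : K ≤ A := by
  obtain ⟨N, hN⟩ := hM
  have key : ∀ j : ℕ, K ≤ A ⊔ M ^ j * K := fun j => by
    induction j with
    | zero => rw [pow_zero, Ideal.one_eq_top, Ideal.top_mul]; exact le_sup_right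
    | succ j ih =>
      refine ih.trans (sup_le le_sup_left (le_trans (Ideal.mul_mono (le_refl (M ^ j)) h) ?_))
      rw [Ideal.mul_sup, ← mul_assoc, ← pow_succ]
      exact sup_le (le_trans Ideal.mul_le_right le_sup_left) le_sup_right
  refine (key N).trans ?_
  rw [hN, Ideal.zero_eq_bot, Ideal.bot_mul, sup_bot_eq]

namespace Problem

variable {n d : ℕ} (P : Problem x I₀ n d)

/-- A regular sequence of equations of the closed subscheme lifts. -/
theorem nonempty_chartLift_of_regular (U : X.affineOpens) (rs : List Γ(X, U.1))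
    (hrs : IsWeaklyRegular Γ(X, U.1) rs) (hI : I₀.ideal U = Ideal.ofList rs) :
    Nonempty (P.ChartLift U) := by
  classical
  let S := Sec x P.src U
  let S' := Sec x P.tgt U
  let K' := P.pt.1.ideal (pre x P.tgt U)
  have hflat' := (flatOver_iff x P.tgt P.pt.1).1 P.pt.2.1 U
  have hgen : ∀ i : Fin rs.length, ∃ a : S, red x P.p U a ∈ K' ∧ fib x P.src U a = rs.get i := fun i => by
    obtain ⟨a, ha, ha'⟩ := P.exists_mem_big (U := U) (f := rs.get i) (hI ▸ Ideal.subset_span (List.get_mem rs i))
    exact ⟨a, (P.mem_big a).1 ha, ha'⟩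
  choose a ha hfa using hgen
  let K : Ideal S := Ideal.span (Set.range a)
  have hred : K.map (red x P.p U) = K' := by
    refine le_antisymm (Ideal.map_le_iff_le_comap.2 (Ideal.span_le.2 ?_)) ?_
    · rintro _ ⟨i, rfl⟩
      exact ha i
    refine le_span_of_le_sup_mul (M := (𝔪 P.tgt).map (coef x P.tgt U)) ?_ fun z hz => ?_
    · obtain ⟨N, hN⟩ := IsArtinianRing.isNilpotent_jacobson_bot (R := P.tgt)
      rw [IsLocalRing.jacobson_eq_maximalIdeal (R := P.tgt) ⊥ bot_ne_top] at hN
      exact ⟨N, by rw [← Ideal.map_pow, hN, Ideal.zero_eq_bot, Ideal.map_bot]; rfl⟩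
    have hz0 : fib x P.tgt U z ∈ Ideal.span (Set.range rs.get) := by
      rw [Set.range_list_get]
      exact (hI ▸ map_fib' P.pt U ▸ Ideal.mem_map_of_mem _ hz : fib x P.tgt U z ∈ Ideal.ofList rs)
    obtain ⟨c, hc⟩ := Ideal.mem_span_range_iff_exists_fun.1 hz0
    let w : S' := ∑ i, sect x P.tgt U (c i) * red x P.p U (a i)
    have hw : w ∈ K.map (red x P.p U) := sum_mem fun i _ =>
      Ideal.mul_mem_left _ _ (Ideal.mem_map_of_mem _ (Ideal.subset_span ⟨i, rfl⟩))
    have hwK : w ∈ K' := sum_mem fun i _ => Ideal.mul_mem_left _ _ (ha i)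
    refine Submodule.mem_sup.2 ⟨w, hw, z - w, ?_, add_sub_cancel _ _⟩
    refine mem_mul_of_flat (coef x P.tgt U) K' hflat' (𝔪 P.tgt) (sub_mem hz hwK) ?_
    rw [← (fib_spec x P.tgt U).2, RingHom.mem_ker, map_sub, sub_eq_zero, ← hc, map_sum]
    exact Finset.sum_congr rfl fun i _ => by rw [map_mul, fib_sect, fib_red, hfa]
  refine ⟨⟨K, ?_, hred⟩⟩
  let _ : Algebra P.src S := (coef x P.src U).toAlgebra
  have : Module.Flat P.src S := coef_flat x P.src U
  let M₀ : Submodule S S := (𝔪 P.src).map (algebraMap P.src S) • (⊤ : Submodule S S)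
  have hM₀ : M₀ = RingHom.ker (fib x P.src U) := by
    rw [(fib_spec x P.src U).2]
    exact (Ideal.mul_top _)
  let e : (S ⧸ M₀) ≃+ Γ(X, U.1) :=
    ((Ideal.quotEquivOfEq hM₀).trans
      (RingHom.quotientKerEquivOfSurjective (fib_spec x P.src U).1)).toAddEquiv
  have hwr : IsWeaklyRegular (S ⧸ M₀) (List.ofFn a) := by
    refine (AddEquiv.isWeaklyRegular_congr (e := e) (bs := rs) ?_).2 hrs
    refine List.forall₂_iff_get.2 ⟨by simp, fun i h₁ h₂ y => ?_⟩
    obtain ⟨s, rfl⟩ := Submodule.Quotient.mk_surjective _ y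
    rw [List.get_ofFn]
    change fib x P.src U (a ⟨i, _⟩ * s) = rs.get ⟨i, _⟩ * fib x P.src U s
    rw [map_mul, hfa]
  have hflat := (RegFlat.isWeaklyRegular_and_flat (R := P.src) (B := S) (J := 𝔪 P.src)
    (IsLocalRing.maximalIdeal.isMaximal _).ne_top (List.ofFn a) S hwr).2
  have hK : Ideal.ofList (List.ofFn a) • (⊤ : Submodule S S) = K :=
    (Ideal.mul_top _).trans (congrArg Ideal.span (by ext; simp [List.mem_ofFn]))
  rw [hK] at hflat
  exact hflat

/-- A regular closed immersion deforms locally. -/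
theorem locallyLiftable_of_regular (hreg : Mor2.IsRegularClosedImmersion I₀.subschemeι) : P.LocallyLiftable := by
  intro y
  obtain ⟨U, hU, hy, rs, hrs, hI⟩ := hreg.2 y
  rw [I₀.ker_subschemeι] at hI
  exact ⟨⟨U, hU⟩, hy, P.nonempty_chartLift_of_regular ⟨U, hU⟩ rs hrs.toIsWeaklyRegular hI⟩

end Problem

variable {B A : Art k k} (p : B ⟶ A)

/-- The kernel of a morphism of Artin algebras as a vector space. -/
abbrev kerSub : Submodule k B := LinearMap.ker p.toAlgHom.toLinearMap

theorem exists_maximal_gen (B : Art k k) : ∃ (d : ℕ) (m : Fin d → B), Ideal.span (Set.range m) = 𝔪 B :=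
  Submodule.fg_iff_exists_fin_generating_family.1 (𝔪 B).fg_of_isNoetherianRing

/-- A basis of the kernel. -/
def kerBasis : Module.Basis (Fin (Module.finrank k (kerSub p))) k (kerSub p) := Module.finBasis k _

theorem ker_le_span (g : B) (hg : p g = 0) :
    g ∈ Ideal.span (Set.range fun j => (kerBasis p j : B)) := by
  have h : ((⟨g, hg⟩ : kerSub p) : B) = _ :=
    congrArg Subtype.val ((kerBasis p).sum_repr ⟨g, hg⟩).symm
  rw [Submodule.coe_sum] at h
  change g = _ at h
  rw [h]
  refine sum_mem fun j _ => ?_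
  rw [Submodule.coe_smul, Algebra.smul_def]
  exact Ideal.mul_mem_left _ _ (Ideal.subset_span ⟨j, rfl⟩)

/-- The lifting problem of a semismall extension. -/
def probOf (hp : IsSemismallExt p) (ξ : (ArtFun.localHilb X x I₀).obj A) :
    Problem x I₀ (Module.finrank k (kerSub p)) (exists_maximal_gen B).choose where
  src := B
  tgt := A
  p := p
  surj := hp.1
  t j := kerBasis p j
  t_ker j := (kerBasis p j).2
  ker_le g hg := ker_le_span p g hg
  kill c hc j := by
    have := Ideal.mul_mem_mul hc (show (kerBasis p j : B) ∈ RingHom.ker p.toAlgHom from (kerBasis p j).2)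
    rwa [hp.2, Ideal.mem_bot] at this
  indep := (kerBasis p).linearIndependent.map' (kerSub p).subtype (Submodule.ker_subtype _)
  m := (exists_maximal_gen B).choose_spec.choose
  m_span := (exists_maximal_gen B).choose_spec.choose_spec.symm
  pt := ξ

/-- The conormal sheaf read through the ideal itself. -/
def conormalIso : Omega.conormal I₀.subschemeι ≅
    (Scheme.Modules.pullback I₀.subschemeι).obj (ClSub.idealMod I₀) :=
  (Scheme.Modules.pullback I₀.subschemeι).mapIso (eqToIso (congrArg ClSub.idealMod I₀.ker_subschemeι))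

theorem subsingleton_ext_congr {C : Type*} [Category C] [Abelian C] [HasExt.{u} C] {M N : C} (e : M ≅ N) (O : C)
    (h : Subsingleton (Abelian.Ext.{u} M O 1)) : Subsingleton (Abelian.Ext.{u} N O 1) := by
  refine ⟨fun a b => ?_⟩
  have he : ∀ c : Abelian.Ext.{u} N O 1,
      (Abelian.Ext.mk₀ e.inv).comp ((Abelian.Ext.mk₀ e.hom).comp c (zero_add 1)) (zero_add 1) = c := fun c => by
    rw [Abelian.Ext.mk₀_comp_mk₀_assoc, Iso.inv_hom_id, Abelian.Ext.mk₀_id_comp]
  rw [← he a, ← he b]
  rw [h.elim ((Abelian.Ext.mk₀ e.hom).comp a (zero_add 1)) ((Abelian.Ext.mk₀ e.hom).comp b (zero_add 1))]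

/-- Points lift along semismall extensions when they lift locally and the first Ext of the conormal
sheaf vanishes. -/
theorem surjective_map_of_ext [HasExt.{u} I₀.subscheme.Modules]
    (hloc : ∀ {n d : ℕ} (P : Problem x I₀ n d), P.LocallyLiftable)
    (h : Subsingleton (Abelian.Ext.{u} (Omega.conormal I₀.subschemeι) (Coh.structureModule I₀.subscheme) 1))
    (hp : IsSemismallExt p) :
    Function.Surjective ((ArtFun.localHilb X x I₀).map p) := fun ξ =>
  (probOf p hp ξ).exists_lift_of_ext (hloc _)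
    (subsingleton_ext_congr (conormalIso (I₀ := I₀)) _ h)

theorem isFinLocFree_conormal_of_regular (hreg : Mor2.IsRegularClosedImmersion I₀.subschemeι) :
    FlatMod.IsFinLocFree (Omega.conormal I₀.subschemeι) := by
  refine Groth.KoszulLCI.isFinLocFree_conormal I₀.subschemeι fun z => ?_
  obtain ⟨U, hU, hz, rs, hrs, hI⟩ := hreg.2 z
  refine ⟨⟨U, hU⟩, hz, inferInstance, rs, ?_, ?_⟩
  · exact Groth.KoszulLCI.seq_h1_of_koszul (Groth.KoszulLCI.seq_koszul_of_regular hrs)
  · rw [← hI, Scheme.Hom.ker_apply]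

theorem subsingleton_ext_of_regular [HasExt.{u} I₀.subscheme.Modules]
    [DCoh.HasSheafHom (Omega.conormal I₀.subschemeι)]
    (hreg : Mor2.IsRegularClosedImmersion I₀.subschemeι) [I₀.subscheme.Over (specPt k)]
    (h1 : Subsingleton (Coh.HH I₀.subscheme ((DCoh.sheafHom (Omega.conormal I₀.subschemeι)).obj
      (Coh.structureModule I₀.subscheme)) 1)) :
    Subsingleton (Abelian.Ext.{u} (Omega.conormal I₀.subschemeι) (Coh.structureModule I₀.subscheme) 1) := by
  obtain ⟨e⟩ := Groth.Duality.SheafHom.nonempty_ext_linearEquiv (A := k) _ (isFinLocFree_conormal_of_regular hreg) 1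
    (Coh.structureModule I₀.subscheme)
  exact e.toEquiv.subsingleton

end Groth.ArtfunDeform.HilbObs
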