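import Groth.Agent.ArtfunDeform.HilbObs.Ext

/-!
Lifts correspond to retractions of the lifted equations onto the kernel.
-/

set_option linter.style.longLine false

noncomputable section

universe u

open CategoryTheory CategoryTheory.Limits AlgebraicGeometry
open ArtFun ArtFun.Art

namespace Groth.ArtfunDeform.HilbObs.Problem

open HilbAffine HilbGlue HilbTangent
open Groth.PicAux (resX res app_res)

attribute [local instance] Abelian.hasFiniteBiproducts

local notation "𝔪" => IsLocalRing.maximalIdeal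

variable {k : Type u} [Field k] {X : Scheme.{u}} {x : X ⟶ specPt k} {I₀ : X.IdealSheafData}
variable {n d : ℕ} (P : Problem x I₀ n d)

theorem sum_coef_t_eq {U : X.affineOpens} {j : Fin n} (c : P.src) :
    coef x P.src U c * coef x P.src U (P.t j) =
      coef x P.src U (algebraMap k P.src (P.src.res c)) * coef x P.src U (P.t j) := by
  rw [← map_mul, ← map_mul, ← sub_eq_zero, ← map_sub, ← sub_mul, P.kill _ _ j, map_zero]
  rw [P.src.mem_maximalIdeal_iff, map_sub, AlgHom.commutes, Algebra.algebraMap_self, RingHom.id_apply, sub_self]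

theorem relation_mem {c : Fin n → P.src} (h : ∑ j, P.t j * c j = 0) (j : Fin n) : c j ∈ 𝔪 P.src := by
  have h' : ∑ j, P.src.res (c j) • P.t j = 0 := by
    rw [← h]
    refine Finset.sum_congr rfl fun i _ => ?_
    rw [Algebra.smul_def, mul_comm (P.t i), ← sub_eq_zero, ← sub_mul]
    refine P.kill _ ?_ i
    rw [P.src.mem_maximalIdeal_iff, map_sub, AlgHom.commutes, Algebra.algebraMap_self, RingHom.id_apply, sub_self]
  rw [P.src.mem_maximalIdeal_iff]
  exact Fintype.linearIndependent_iff.1 P.indep _ h' j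

theorem mem_map_of_sum {A S R : Type u} [CommRing A] [CommRing S] [CommRing R] (φ : A →+* S) (r : S →+* R)
    (K : Ideal S) (hK : ((Ideal.Quotient.mk K).comp φ).Flat) {n : ℕ} {t : Fin n → A}
    (hann : ∀ c : Fin n → A, ∑ i, t i * c i = 0 → ∀ i, r (φ (c i)) = 0) {s : Fin n → S}
    (hs : ∑ i, φ (t i) * s i ∈ K) (i : Fin n) : r (s i) ∈ K.map r := by
  let _ : Algebra A S := φ.toAlgebra
  have : Module.Flat A (S ⧸ K) := hK
  have hrel : ∑ l, t l • Ideal.Quotient.mk K (s l) = 0 := by
    rw [← Ideal.Quotient.eq_zero_iff_mem.2 hs, map_sum]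
    refine Finset.sum_congr rfl fun l _ => ?_
    rw [map_mul]
    exact Algebra.smul_def (R := A) (A := S ⧸ K) _ _
  obtain ⟨N, c, w, hw, hc⟩ := Module.Flat.isTrivialRelation_of_sum_smul_eq_zero (R := A) (M := S ⧸ K) hrel
  choose w' hw' using fun l => Ideal.Quotient.mk_surjective (w l)
  have h2 : s i - ∑ l, φ (c i l) * w' l ∈ K := by
    rw [← Ideal.Quotient.eq_zero_iff_mem, map_sub, map_sum, sub_eq_zero]
    refine (hw i).trans (Finset.sum_congr rfl fun l _ => ?_)
    rw [map_mul, hw', Algebra.smul_def]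
    rfl
  have h3 : r (∑ l, φ (c i l) * w' l) = 0 := by
    rw [map_sum]
    exact Finset.sum_eq_zero fun l _ => by rw [map_mul, hann _ (hc l) i, zero_mul]
  have h4 := Ideal.mem_map_of_mem r h2
  rwa [map_sub, h3, sub_zero] at h4

/-- In a flat quotient the coefficients of the kernel are determined on the closed fibre. -/
theorem fib_mem_of_sum_t {U : X.affineOpens} (K : Ideal (Sec x P.src U))
    (hK : ((Ideal.Quotient.mk K).comp (coef x P.src U)).Flat) {s : Fin n → Sec x P.src U}
    (hs : ∑ j, coef x P.src U (P.t j) * s j ∈ K) (j : Fin n) :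
    fib x P.src U (s j) ∈ K.map (fib x P.src U) :=
  mem_map_of_sum (coef x P.src U) (fib x P.src U) K hK
    (fun _ hc i => P.fib_coef_eq_zero U (P.relation_mem hc i)) hs j

theorem val_sub (U : X.affineOpens) (a b : Γ(P.bigMod, U.1)) : P.val U (a - b) = P.val U a - P.val U b :=
  map_sub _ _ _

/-- A lift on a chart. -/
structure ChartLift (U : X.affineOpens) where
  K : Ideal (Sec x P.src U)
  flat : ((Ideal.Quotient.mk K).comp (coef x P.src U)).Flat
  map_red : K.map (red x P.p U) = P.pt.1.ideal (pre x P.tgt U)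

variable {P}

theorem ChartLift.le_big {U : X.affineOpens} (L : P.ChartLift U) : L.K ≤ P.big.ideal (pre x P.src U) :=
  fun g hg => (P.mem_big g).2 (L.map_red ▸ Ideal.mem_map_of_mem _ hg)

theorem ChartLift.map_fib {U : X.affineOpens} (L : P.ChartLift U) : L.K.map (fib x P.src U) = I₀.ideal U := by
  rw [← fib_map_red x P.p, L.map_red, map_fib']

theorem ChartLift.exists_sub {U : X.affineOpens} (L : P.ChartLift U) {g : Sec x P.src U}
    (hg : g ∈ P.big.ideal (pre x P.src U)) :
    ∃ f : Fin n → Γ(X, U.1), g - ∑ j, coef x P.src U (P.t j) * sect x P.src U (f j) ∈ L.K := by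
  have h := (P.mem_big g).1 hg
  rw [← L.map_red] at h
  obtain ⟨v, hv, hvg⟩ := (Ideal.mem_map_iff_of_surjective _ (red_spec x P.p P.surj U).1).1 h
  obtain ⟨f, hf⟩ := P.exists_sum_t (z := g - v) (by rw [map_sub, hvg, sub_self])
  exact ⟨f, by rw [← hf, sub_sub_cancel]; exact hv⟩

theorem ChartLift.sub_unique {U : X.affineOpens} (L : P.ChartLift U) {g : Sec x P.src U}
    {f f' : Fin n → Γ(X, U.1)}
    (h : g - ∑ j, coef x P.src U (P.t j) * sect x P.src U (f j) ∈ L.K)
    (h' : g - ∑ j, coef x P.src U (P.t j) * sect x P.src U (f' j) ∈ L.K) (j : Fin n) :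
    qM U I₀ (f j) = qM U I₀ (f' j) := by
  have h1 := sub_mem h' h
  rw [sub_sub_sub_cancel_left, ← Finset.sum_sub_distrib] at h1
  simp only [← mul_sub, ← map_sub] at h1
  have h2 := P.fib_mem_of_sum_t L.K L.flat (s := fun j => sect x P.src U (f j - f' j)) h1 j
  rw [fib_sect, L.map_fib, ← qM_eq_zero U I₀, qM_sub, sub_eq_zero] at h2
  exact h2

/-- Compatible lifts on a family of charts. -/
theorem ChartLift.sub_res {U W : X.affineOpens} (L : P.ChartLift U) (L' : P.ChartLift W) (h : W.1 ≤ U.1)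
    (hK : ∀ g ∈ L.K, resX _ (pre_mono x P.src h) g ∈ L'.K) {g : Sec x P.src U} {f : Fin n → Γ(X, U.1)}
    (hf : g - ∑ j, coef x P.src U (P.t j) * sect x P.src U (f j) ∈ L.K) :
    resX _ (pre_mono x P.src h) g - ∑ j, coef x P.src W (P.t j) * sect x P.src W (resX X h (f j)) ∈ L'.K := by
  have := hK _ hf
  simp only [map_sub, map_sum, map_mul, coef_res' x P.src h, sect_res x P.src h] at this
  exact this

variable (P)

variable {P}

/-- The coefficient along the kernel, read on the closed subscheme. -/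
def ChartLift.retr {U : X.affineOpens} (L : P.ChartLift U) (l : Fin n) (a : Γ(P.bigMod, U.1)) :
    Γ(ClSub.quotMod I₀, U.1) :=
  qM U I₀ ((L.exists_sub (P.val_mem U a)).choose l)

theorem ChartLift.retr_eq {U : X.affineOpens} (L : P.ChartLift U) {a : Γ(P.bigMod, U.1)} {f : Fin n → Γ(X, U.1)}
    (h : P.val U a - ∑ j, coef x P.src U (P.t j) * sect x P.src U (f j) ∈ L.K) (l : Fin n) :
    L.retr l a = qM U I₀ (f l) :=
  L.sub_unique (L.exists_sub (P.val_mem U a)).choose_spec h l

theorem ChartLift.retr_add {U : X.affineOpens} (L : P.ChartLift U) (l : Fin n) (a b : Γ(P.bigMod, U.1)) :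
    L.retr l (a + b) = L.retr l a + L.retr l b := by
  obtain ⟨f, hf⟩ := L.exists_sub (P.val_mem U a)
  obtain ⟨g, hg⟩ := L.exists_sub (P.val_mem U b)
  have h : P.val U (a + b) - ∑ j, coef x P.src U (P.t j) * sect x P.src U (f j + g j) ∈ L.K := by
    have := add_mem hf hg
    rw [sub_add_sub_comm] at this
    simpa only [map_add, mul_add, Finset.sum_add_distrib, P.val_add] using this
  rw [L.retr_eq h, L.retr_eq hf, L.retr_eq hg, qM_add]

theorem ChartLift.retr_smul {U : X.affineOpens} (L : P.ChartLift U) (l : Fin n) (c : Γ(X, U.1))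
    (a : Γ(P.bigMod, U.1)) : L.retr l (c • a) = c • L.retr l a := by
  obtain ⟨f, hf⟩ := L.exists_sub (P.val_mem U a)
  have h : P.val U (c • a) - ∑ j, coef x P.src U (P.t j) * sect x P.src U (c * f j) ∈ L.K := by
    have := Ideal.mul_mem_left _ (sect x P.src U c) hf
    rw [mul_sub, Finset.mul_sum, ← P.val_smul] at this
    refine (congrArg (fun z => P.val U (c • a) - z ∈ L.K) (Finset.sum_congr rfl fun j _ => ?_)).mp this
    rw [map_mul]
    exact mul_left_comm _ _ _
  rw [L.retr_eq h, L.retr_eq hf, qM_mul]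

theorem ChartLift.retr_res {U W : X.affineOpens} (L : P.ChartLift U) (L' : P.ChartLift W) (h : W.1 ≤ U.1)
    (hK : ∀ g ∈ L.K, resX _ (pre_mono x P.src h) g ∈ L'.K) (l : Fin n) (a : Γ(P.bigMod, U.1)) :
    res (ClSub.quotMod I₀) h (L.retr l a) = L'.retr l (res P.bigMod h a) := by
  obtain ⟨f, hf⟩ := L.exists_sub (P.val_mem U a)
  have h' := L.sub_res L' h hK hf
  rw [← P.val_res h] at h'
  rw [L.retr_eq hf, L'.retr_eq h']
  exact (qM_res U I₀ h _).symm

theorem ChartLift.retr_coefHom {U : X.affineOpens} (L : P.ChartLift U) (l : Fin n) (i : Fin d)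
    (a : Γ(P.bigMod, U.1)) : L.retr l ((P.coefHom (P.m i)).app U.1 a) = 0 := by
  obtain ⟨f, hf⟩ := L.exists_sub (P.val_mem U a)
  have h : P.val U ((P.coefHom (P.m i)).app U.1 a) -
      ∑ j, coef x P.src U (P.t j) * sect x P.src U ((0 : Fin n → Γ(X, U.1)) j) ∈ L.K := by
    simp only [Pi.zero_apply, map_zero, mul_zero, Finset.sum_const_zero, sub_zero, val_coefHom]
    have := Ideal.mul_mem_left _ (coef x P.src U (P.m i)) hf
    rwa [mul_sub, Finset.mul_sum, Finset.sum_eq_zero (fun j _ => by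
      rw [← mul_assoc, ← map_mul, P.kill _ (P.m_mem i) j, map_zero, zero_mul]), sub_zero] at this
  rw [L.retr_eq h, Pi.zero_apply, qM_zero]

theorem ChartLift.retr_kerHom {U : X.affineOpens} (L : P.ChartLift U) (l j : Fin n)
    (f : Γ(Coh.structureModule X, U.1)) :
    L.retr l ((P.kerHom j).app U.1 f) = if j = l then qM U I₀ (Groth.PicAux.toFun f) else 0 := by
  have h : P.val U ((P.kerHom j).app U.1 f) - ∑ i, coef x P.src U (P.t i) *
      sect x P.src U ((Pi.single j (Groth.PicAux.toFun f) : Fin n → Γ(X, U.1)) i) ∈ L.K := by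
    rw [Finset.sum_eq_single j (fun i _ hi => by rw [Pi.single_eq_of_ne hi, map_zero, mul_zero])
      (fun h => absurd (Finset.mem_univ j) h), Pi.single_eq_same, val_kerHom, sub_self]
    exact zero_mem _
  rw [L.retr_eq h]
  split_ifs with e
  · subst e
    rw [Pi.single_eq_same]
  · rw [Pi.single_eq_of_ne (Ne.symm e), qM_zero]

variable (P)

/-- The condition of a retraction. -/
def IsRetr (r : Fin n → (P.bigMod ⟶ ClSub.quotMod I₀)) : Prop :=
  (∀ l i, P.coefHom (P.m i) ≫ r l = 0) ∧
    ∀ l j, P.kerHom j ≫ r l = if j = l then ClSub.toSubscheme I₀ else 0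

theorem toSubscheme_app (U : X.affineOpens) (f : Γ(X, U.1)) :
    (ClSub.toSubscheme I₀).app U.1 (ofFun f) = qM U I₀ f := rfl

variable {P}

theorem IsRetr.app_kerHom {r : Fin n → (P.bigMod ⟶ ClSub.quotMod I₀)} (hr : P.IsRetr r) (U : X.affineOpens)
    (l j : Fin n) (f : Γ(X, U.1)) :
    (r l).app U.1 ((P.kerHom j).app U.1 (ofFun f)) = if j = l then qM U I₀ f else 0 := by
  have := congr(($(hr.2 l j)).app U.1 (ofFun f))
  split_ifs with h
  · rw [if_pos h] at this
    exact this
  · rw [if_neg h] at this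
    exact this

/-- A retraction gives a lift. -/
theorem exists_lift_of_retr {r : Fin n → (P.bigMod ⟶ ClSub.quotMod I₀)} (hr : P.IsRetr r) :
    ∃ ξ : (ArtFun.localHilb X x I₀).obj P.src, (ArtFun.localHilb X x I₀).map P.p ξ = P.pt := by
  classical
  let K : ∀ U : X.affineOpens, Ideal (Sec x P.src U) := fun U =>
    { carrier := {g | ∃ a : Γ(P.bigMod, U.1), P.val U a = g ∧ ∀ l, (r l).app U.1 a = 0}
      zero_mem' := ⟨0, P.val_zero U, fun l => map_zero _⟩
      add_mem' := fun {g g'} ⟨a, ha, ha'⟩ ⟨b, hb, hb'⟩ => ⟨a + b, by rw [P.val_add, ha, hb],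
        fun l => by rw [map_add, ha', hb', add_zero]⟩
      smul_mem' := fun c g ⟨a, ha, ha'⟩ => by
        have h : c - sect x P.src U (fib x P.src U c) ∈ (𝔪 P.src).map (coef x P.src U) := by
          rw [← (fib_spec x P.src U).2, RingHom.mem_ker, map_sub, fib_sect, sub_self]
        rw [P.m_span, Ideal.map_span, ← Set.range_comp] at h
        obtain ⟨s, hs⟩ := Ideal.mem_span_range_iff_exists_fun.1 h
        choose b hb using fun i => P.exists_val (Ideal.mul_mem_left _ (s i) (P.val_mem U a))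
        refine ⟨fib x P.src U c • a + ∑ i, (P.coefHom (P.m i)).app U.1 (b i), ?_, fun l => ?_⟩
        · rw [P.val_add, P.val_smul, P.val_sum, smul_eq_mul, ← ha]
          simp only [val_coefHom, hb, ← mul_assoc]
          rw [← Finset.sum_mul, ← add_mul]
          refine congrArg (· * P.val U a) ?_
          rw [← eq_sub_iff_add_eq', ← hs]
          exact Finset.sum_congr rfl fun i _ => mul_comm _ _
        · rw [map_add, Scheme.Modules.Hom.app_smul, ha', smul_zero, map_sum, zero_add]
          exact Finset.sum_eq_zero fun i _ => congr(($(hr.1 l i)).app U.1 (b i)) }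
  have hmem : ∀ {U : X.affineOpens} {a : Γ(P.bigMod, U.1)}, P.val U a ∈ K U ↔ ∀ l, (r l).app U.1 a = 0 :=
    fun {U a} => ⟨fun ⟨b, hb, hb'⟩ => P.val_injective U hb ▸ hb', fun h => ⟨a, rfl, h⟩⟩
  have hle : ∀ U, K U ≤ P.big.ideal (pre x P.src U) := fun U g ⟨a, ha, _⟩ => ha ▸ P.val_mem U a
  -- projection to `K`
  have hproj : ∀ (U : X.affineOpens) g, g ∈ P.big.ideal (pre x P.src U) →
      ∃ f : Fin n → Γ(X, U.1), g - ∑ j, coef x P.src U (P.t j) * sect x P.src U (f j) ∈ K U := by
    intro U g hg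
    obtain ⟨a, rfl⟩ := P.exists_val hg
    choose f hf using fun l => qM_surjective U I₀ ((r l).app U.1 a)
    refine ⟨f, ⟨a - ∑ j, (P.kerHom j).app U.1 (ofFun (f j)), ?_, fun l => ?_⟩⟩
    · rw [val_sub, P.val_sum]
      simp only [val_kerHom, toFun_ofFun]
    · rw [map_sub, map_sum, Finset.sum_eq_single l (fun j _ hj => by rw [hr.app_kerHom, if_neg hj])
        (fun h => absurd (Finset.mem_univ l) h), hr.app_kerHom, if_pos rfl, hf, sub_self]
  have hcoef : ∀ (U : X.affineOpens) (j : Fin n) (g : Sec x P.src U), fib x P.src U g ∈ I₀.ideal U →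
      coef x P.src U (P.t j) * g ∈ K U := by
    intro U j g hg
    refine ⟨(P.kerHom j).app U.1 (ofFun (fib x P.src U g)), ?_, fun l => ?_⟩
    · rw [val_kerHom, toFun_ofFun, ← P.coef_t_sect]
    · rw [hr.app_kerHom, qM_eq_zero U I₀ |>.2 hg, ite_self]
  have hmono : ∀ {U W : X.affineOpens} (h : W.1 ≤ U.1), ∀ g ∈ K U, resX _ (pre_mono x P.src h) g ∈ K W := by
    rintro U W h g ⟨a, rfl, ha⟩
    rw [← P.val_res h, hmem]
    intro l
    rw [app_res, ha, Groth.PicAux.res_zero]
  have hbasic : ∀ {U W : X.affineOpens} (h : W.1 ≤ U.1), K W ≤ (K U).map (resX _ (pre_mono x P.src h)) := by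
    intro U W h g hg
    let R := resX (XA x P.src) (pre_mono x P.src h)
    have hR : ∀ g₁ ∈ P.big.ideal (pre x P.src U), ∀ j, coef x P.src W (P.t j) * R g₁ ∈ (K U).map R := fun g₁ h₁ j => by
      rw [← coef_res' x P.src h, ← map_mul]
      exact Ideal.mem_map_of_mem _ (hcoef U j g₁ (P.fib_mem_of_mem_big h₁))
    have hR' : ∀ w ∈ P.big.ideal (pre x P.src W), ∀ j, coef x P.src W (P.t j) * w ∈ (K U).map R := by
      intro w hw j
      rw [← Scheme.IdealSheafData.map_ideal P.big (U := pre x P.src W) (V := pre x P.src U) (pre_mono x P.src h)] at hw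
      refine Submodule.span_induction (fun y hy => ?_) (by rw [mul_zero]; exact zero_mem _)
        (fun a b _ _ ha hb => by rw [mul_add]; exact add_mem ha hb)
        (fun c a _ ha => by rw [smul_eq_mul, mul_left_comm]; exact Ideal.mul_mem_left _ _ ha) hw
      obtain ⟨g₁, h₁, rfl⟩ := hy
      exact hR g₁ h₁ j
    -- decomposition of the elements of the equations on `W`
    have hdec : ∀ w ∈ P.big.ideal (pre x P.src W), ∃ v ∈ (K U).map R, ∃ s : Fin n → Sec x P.src W,
        w = v + ∑ j, coef x P.src W (P.t j) * s j := by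
      intro w hw
      rw [← Scheme.IdealSheafData.map_ideal P.big (U := pre x P.src W) (V := pre x P.src U) (pre_mono x P.src h)] at hw
      refine Submodule.span_induction (fun y hy => ?_) ⟨0, zero_mem _, 0, by simp⟩
        (fun a b _ _ ⟨v, hv, s, e⟩ ⟨v', hv', s', e'⟩ => ⟨v + v', add_mem hv hv', s + s', by
          rw [e, e']; simp only [Pi.add_apply, mul_add, Finset.sum_add_distrib]; abel⟩)
        (fun c a _ ⟨v, hv, s, e⟩ => ⟨c * v, Ideal.mul_mem_left _ _ hv, c • s, by
          rw [e, smul_eq_mul, mul_add, Finset.mul_sum]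
          simp only [Pi.smul_apply, smul_eq_mul, mul_left_comm]⟩) hw
      obtain ⟨g₁, h₁, rfl⟩ := hy
      obtain ⟨f, hf⟩ := hproj U g₁ h₁
      refine ⟨R (g₁ - ∑ j, coef x P.src U (P.t j) * sect x P.src U (f j)), Ideal.mem_map_of_mem _ hf,
        fun j => R (sect x P.src U (f j)), ?_⟩
      simp only [R, map_sub, map_sum, map_mul, coef_res' x P.src h]
      exact (sub_add_cancel _ _).symm
    obtain ⟨v, hv, s, e⟩ := hdec g (hle W hg)
    have hvK : v ∈ K W := Ideal.map_le_iff_le_comap.2 (fun a ha => Ideal.mem_comap.2 (hmono h a ha) : K U ≤ (K W).comap R) hv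
    have hsum : ∑ j, coef x P.src W (P.t j) * s j ∈ K W := by
      have := sub_mem hg hvK
      rwa [e, add_sub_cancel_left] at this
    rw [e]
    refine add_mem hv (sum_mem fun j _ => ?_)
    obtain ⟨a, ha, ha'⟩ := hsum
    have hz : fib x P.src W (s j) ∈ I₀.ideal W := by
      have e2 : a = ∑ i, (P.kerHom i).app W.1 (ofFun (fib x P.src W (s i))) := P.val_injective W (by
        rw [P.val_sum, ha]
        simp only [val_kerHom, toFun_ofFun, ← P.coef_t_sect])
      have := ha' j
      rw [e2, map_sum, Finset.sum_eq_single j (fun i _ hi => by rw [hr.app_kerHom, if_neg hi])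
        (fun h => absurd (Finset.mem_univ j) h), hr.app_kerHom, if_pos rfl] at this
      exact (qM_eq_zero W I₀).1 this
    obtain ⟨w, hw, hfw⟩ := P.exists_mem_big hz
    rw [P.coef_t_congr W j hfw.symm]
    exact hR' w hw j
  obtain ⟨I, hI⟩ := exists_idealSheaf (x := x) P.src K hmono (fun U a => hbasic (X.basicOpen_le _))
  have hred : ∀ U, (K U).map (red x P.p U) = P.pt.1.ideal (pre x P.tgt U) := by
    intro U
    refine le_antisymm (Ideal.map_le_iff_le_comap.2 fun g hg => (P.mem_big g).1 (hle U hg)) fun z hz => ?_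
    obtain ⟨g, rfl⟩ := (red_spec x P.p P.surj U).1 z
    obtain ⟨f, hf⟩ := hproj U g ((P.mem_big g).2 hz)
    refine (congrArg (· ∈ _) ?_).mp (Ideal.mem_map_of_mem (red x P.p U) hf)
    rw [map_sub, map_sum, Finset.sum_eq_zero, sub_zero]
    intro j _
    rw [map_mul, P.red_coef_t, zero_mul]
  have hfib : ∀ U, (K U).map (fib x P.src U) = I₀.ideal U := fun U => by
    rw [← fib_map_red x P.p, hred, map_fib']
  have hflat : FlatOver X x P.src I := (flatOver_iff x P.src I).2 fun U => by
    rw [hI]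
    refine flat_of_crit _ (coef_flat x P.src U) _ fun g hg hgm => ?_
    have hg0 : fib x P.src U g = 0 := by rwa [← RingHom.mem_ker, (fib_spec x P.src U).2]
    obtain ⟨a, f, ha, e⟩ := P.exists_decomp (hle U hg) hg0
    have h1 : ∑ i, coef x P.src U (P.m i) * a i ∈ (𝔪 P.src).map (coef x P.src U) * K U := by
      refine sum_mem fun i _ => ?_
      obtain ⟨f', hf'⟩ := hproj U (a i) (ha i)
      have : coef x P.src U (P.m i) * a i =
          coef x P.src U (P.m i) * (a i - ∑ j, coef x P.src U (P.t j) * sect x P.src U (f' j)) := by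
        rw [mul_sub, Finset.mul_sum, Finset.sum_eq_zero (fun j _ => by
          rw [← mul_assoc, ← map_mul, P.kill _ (P.m_mem i) j, map_zero, zero_mul]), sub_zero]
      rw [this]
      exact Ideal.mul_mem_mul (Ideal.mem_map_of_mem _ (P.m_mem i)) hf'
    rw [e]
    refine add_mem h1 (sum_mem fun j _ => ?_)
    have hsum : ∑ j, coef x P.src U (P.t j) * sect x P.src U (f j) ∈ K U := by
      have := sub_mem hg (Ideal.mul_le_right (I := (𝔪 P.src).map (coef x P.src U)) (J := K U) h1)
      rwa [e, add_sub_cancel_left] at this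
    obtain ⟨b, hb, hb'⟩ := hsum
    have hz : f j ∈ I₀.ideal U := by
      have e2 : b = ∑ i, (P.kerHom i).app U.1 (ofFun (f i)) := P.val_injective U (by
        rw [P.val_sum, hb]
        simp only [val_kerHom, toFun_ofFun])
      have := hb' j
      rw [e2, map_sum, Finset.sum_eq_single j (fun i _ hi => by rw [hr.app_kerHom, if_neg hi])
        (fun h => absurd (Finset.mem_univ j) h), hr.app_kerHom, if_pos rfl] at this
      exact (qM_eq_zero U I₀).1 this
    rw [← hfib U] at hz
    obtain ⟨w, hw, hfw⟩ := (Ideal.mem_map_iff_of_surjective _ (fib_spec x P.src U).1).1 hz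
    rw [P.coef_t_congr U j (s' := w) (by rw [fib_sect, hfw])]
    exact Ideal.mul_mem_mul (Ideal.mem_map_of_mem _ (P.t_mem j)) hw
  have hI₀ : I.comap (XAincl x P.src) = I₀ := by
    ext U : 2
    rw [ideal_fib, hI, hfib]
  refine ⟨⟨I, hflat, hI₀⟩, Subtype.ext (ext_pre x fun U => ?_)⟩
  change (I.comap (XAmap x P.p)).ideal (pre x P.tgt U) = _
  rw [ideal_red, hI, hred]

/-- A lift gives a retraction. -/
theorem exists_retr_of_lift (ξ : (ArtFun.localHilb X x I₀).obj P.src)
    (hξ : (ArtFun.localHilb X x I₀).map P.p ξ = P.pt) :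
    ∃ r : Fin n → (P.bigMod ⟶ ClSub.quotMod I₀), P.IsRetr r := by
  let L : ∀ U : X.affineOpens, P.ChartLift U := fun U =>
    ⟨ξ.1.ideal (pre x P.src U), (flatOver_iff x P.src ξ.1).1 ξ.2.1 U, by
      rw [← ideal_red, ← hξ]; rfl⟩
  choose r hr using fun l : Fin n => Groth.LocFree.exists_hom_of_affine (L := P.bigMod) (M := ClSub.quotMod I₀)
    (fun V hV =>
    { toFun := (L ⟨V, hV⟩).retr l
      map_add' := (L ⟨V, hV⟩).retr_add l
      map_smul' := (L ⟨V, hV⟩).retr_smul l })
    (fun V W hV hW hWV a => (L ⟨V, hV⟩).retr_res (L ⟨W, hW⟩) hWV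
      (fun g hg => ξ.1.ideal_le_comap_ideal (pre_mono x P.src (U := ⟨V, hV⟩) (W := ⟨W, hW⟩) hWV) hg) l a)
  refine ⟨r, fun l i => hom_ext_affine fun U a => ?_, fun l j => hom_ext_affine fun U a => ?_⟩
  · exact (hr l U.1 U.2 _).trans ((L U).retr_coefHom l i a)
  · refine (hr l U.1 U.2 _).trans (((L U).retr_kerHom l j a).trans ?_)
    split_ifs <;> rfl

theorem exists_lift_iff_retr :
    (∃ ξ : (ArtFun.localHilb X x I₀).obj P.src, (ArtFun.localHilb X x I₀).map P.p ξ = P.pt) ↔
      ∃ r : Fin n → (P.bigMod ⟶ ClSub.quotMod I₀), P.IsRetr r :=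
  ⟨fun ⟨ξ, hξ⟩ => exists_retr_of_lift ξ hξ, fun ⟨_, hr⟩ => exists_lift_of_retr hr⟩

end Groth.ArtfunDeform.HilbObs.Problem
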