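import Groth.Agent.ArtfunDeform.HilbTangentLinear
import Mathlib.CategoryTheory.Preadditive.Biproducts

/-!
Lifting a point of the local Hilbert functor along a semismall extension: the module of lifted
equations and the dictionary between lifts and retractions.
-/

set_option linter.style.longLine false

noncomputable section

universe u

open CategoryTheory CategoryTheory.Limits AlgebraicGeometry
open ArtFun ArtFun.Art

namespace Groth.ArtfunDeform.HilbObs

open HilbAffine HilbGlue HilbTangent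
open Groth.PicAux (resX)

attribute [local instance] Abelian.hasFiniteBiproducts

local notation "𝔪" => IsLocalRing.maximalIdeal

variable {k : Type u} [Field k] {X : Scheme.{u}} (x : X ⟶ specPt k) (I₀ : X.IdealSheafData)

/-- A lifting problem: a point over the target of a surjection whose kernel has a basis killed by the
maximal ideal, and generators of that maximal ideal. -/
structure Problem (n d : ℕ) where
  src : Art k k
  tgt : Art k k
  p : src ⟶ tgt
  surj : Function.Surjective p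
  t : Fin n → src
  t_ker : ∀ j, p (t j) = 0
  ker_le : RingHom.ker p.toAlgHom ≤ Ideal.span (Set.range t)
  kill : ∀ c ∈ 𝔪 src, ∀ j, c * t j = 0
  indep : LinearIndependent k t
  m : Fin d → src
  m_span : 𝔪 src = Ideal.span (Set.range m)
  pt : (ArtFun.localHilb X x I₀).obj tgt

variable {x I₀} {n d : ℕ} (P : Problem x I₀ n d)

namespace Problem

/-- A function as a section of the structure module. -/
def ofFun {V : X.Opens} (f : Γ(X, V)) : Γ(Coh.structureModule X, V) := f

theorem toFun_ofFun {V : X.Opens} (f : Γ(X, V)) : Groth.PicAux.toFun (ofFun f) = f := rfl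

/-- The preimage of the equations. -/
def big : (XA x P.src).IdealSheafData := P.pt.1.map (XAmap x P.p)

theorem mem_big {U : X.affineOpens} (g : Sec x P.src U) :
    g ∈ P.big.ideal (pre x P.src U) ↔ red x P.p U g ∈ P.pt.1.ideal (pre x P.tgt U) := by
  rw [big, ideal_map_red]
  rfl

theorem t_mem (j : Fin n) : P.t j ∈ 𝔪 P.src := by
  rw [P.src.mem_maximalIdeal_iff]
  by_contra hne
  have hu := (Groth.ArtfunDeform.isUnit_iff (P.t j)).2 hne
  exact absurd ((hu.map P.p.toAlgHom : IsUnit (P.p (P.t j)))) (by rw [P.t_ker]; exact not_isUnit_zero)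

theorem m_mem (i : Fin d) : P.m i ∈ 𝔪 P.src := P.m_span ▸ Ideal.subset_span ⟨i, rfl⟩

theorem fib_coef_eq_zero (U : X.affineOpens) {c : P.src} (hc : c ∈ 𝔪 P.src) :
    fib x P.src U (coef x P.src U c) = 0 := by
  rw [← RingHom.mem_ker, (fib_spec x P.src U).2]
  exact Ideal.mem_map_of_mem _ hc

theorem red_coef_t (U : X.affineOpens) (j : Fin n) : red x P.p U (coef x P.src U (P.t j)) = 0 := by
  rw [red_coef, P.t_ker, map_zero]

theorem coef_t_mem (U : X.affineOpens) (j : Fin n) (s : Sec x P.src U) :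
    coef x P.src U (P.t j) * s ∈ P.big.ideal (pre x P.src U) := by
  rw [mem_big, map_mul, red_coef_t, zero_mul]
  exact zero_mem _

theorem coef_t_congr (U : X.affineOpens) (j : Fin n) {s s' : Sec x P.src U}
    (h : fib x P.src U s = fib x P.src U s') : coef x P.src U (P.t j) * s = coef x P.src U (P.t j) * s' := by
  rw [← sub_eq_zero, ← mul_sub]
  exact coef_mul_eq_zero x U (fun c hc => P.kill c hc j) (by rw [map_sub, h, sub_self])

theorem coef_t_sect (U : X.affineOpens) (j : Fin n) (s : Sec x P.src U) :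
    coef x P.src U (P.t j) * s = coef x P.src U (P.t j) * sect x P.src U (fib x P.src U s) :=
  P.coef_t_congr U j (fib_sect x P.src U _).symm

theorem fib_mem_of_mem_big {U : X.affineOpens} {g : Sec x P.src U} (hg : g ∈ P.big.ideal (pre x P.src U)) :
    fib x P.src U g ∈ I₀.ideal U := by
  rw [← map_fib' P.pt U, ← fib_red x P.p]
  exact Ideal.mem_map_of_mem _ ((P.mem_big g).1 hg)

theorem exists_mem_big {U : X.affineOpens} {f : Γ(X, U.1)} (hf : f ∈ I₀.ideal U) :
    ∃ g ∈ P.big.ideal (pre x P.src U), fib x P.src U g = f := by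
  rw [← map_fib' P.pt U] at hf
  obtain ⟨h, hh, rfl⟩ := (Ideal.mem_map_iff_of_surjective _ (fib_spec x P.tgt U).1).1 hf
  obtain ⟨g, rfl⟩ := (red_spec x P.p P.surj U).1 h
  exact ⟨g, (P.mem_big g).2 hh, (fib_red x P.p U g).symm⟩

theorem exists_sum_t {U : X.affineOpens} {z : Sec x P.src U} (h : red x P.p U z = 0) :
    ∃ f : Fin n → Γ(X, U.1), z = ∑ j, coef x P.src U (P.t j) * sect x P.src U (f j) := by
  have h' : z ∈ Ideal.span (Set.range fun j => coef x P.src U (P.t j)) := by
    rw [← RingHom.mem_ker, (red_spec x P.p P.surj U).2] at h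
    have := Ideal.map_mono (f := coef x P.src U) P.ker_le h
    rwa [Ideal.map_span, ← Set.range_comp] at this
  obtain ⟨s, hs⟩ := Ideal.mem_span_range_iff_exists_fun.1 h'
  refine ⟨fun j => fib x P.src U (s j), hs.symm.trans (Finset.sum_congr rfl fun j _ => ?_)⟩
  rw [mul_comm (s j), P.coef_t_sect U j (s j)]

/-- An equation vanishing on the closed fibre is a combination of equations times the maximal ideal and
of multiples of the kernel. -/
theorem exists_decomp {U : X.affineOpens} {g : Sec x P.src U} (hg : g ∈ P.big.ideal (pre x P.src U))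
    (h0 : fib x P.src U g = 0) :
    ∃ (a : Fin d → Sec x P.src U) (f : Fin n → Γ(X, U.1)), (∀ i, a i ∈ P.big.ideal (pre x P.src U)) ∧
      g = ∑ i, coef x P.src U (P.m i) * a i + ∑ j, coef x P.src U (P.t j) * sect x P.src U (f j) := by
  have h1 : red x P.p U g ∈ (𝔪 P.tgt).map (coef x P.tgt U) := by
    rw [← (fib_spec x P.tgt U).2, RingHom.mem_ker, fib_red, h0]
  have h2 := mem_mul_of_flat (coef x P.tgt U) _ ((flatOver_iff x P.tgt _).1 P.pt.2.1 U) (𝔪 P.tgt)
    ((P.mem_big g).1 hg) h1
  have h3 : (𝔪 P.tgt).map (coef x P.tgt U) * P.pt.1.ideal (pre x P.tgt U) ≤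
      ((𝔪 P.src).map (coef x P.src U) * P.big.ideal (pre x P.src U)).map (red x P.p U) := by
    rw [Ideal.map_mul]
    refine Ideal.mul_mono ?_ ?_
    · rw [← (fib_spec x P.tgt U).2, ← (fib_spec x P.src U).2]
      intro w hw
      obtain ⟨v, rfl⟩ := (red_spec x P.p P.surj U).1 w
      exact Ideal.mem_map_of_mem _ (show fib x P.src U v = 0 by rw [← fib_red x P.p]; exact hw)
    · intro w hw
      obtain ⟨v, rfl⟩ := (red_spec x P.p P.surj U).1 w
      exact Ideal.mem_map_of_mem _ ((P.mem_big v).2 hw)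
  obtain ⟨w, hw, hwg⟩ := (Ideal.mem_map_iff_of_surjective _ (red_spec x P.p P.surj U).1).1 (h3 h2)
  obtain ⟨f, hf⟩ := P.exists_sum_t (U := U) (z := g - w) (by rw [map_sub, hwg, sub_self])
  suffices ∃ a : Fin d → Sec x P.src U, (∀ i, a i ∈ P.big.ideal (pre x P.src U)) ∧
      w = ∑ i, coef x P.src U (P.m i) * a i by
    obtain ⟨a, ha, rfl⟩ := this
    exact ⟨a, f, ha, by rw [← hf, add_sub_cancel]⟩
  refine Submodule.mul_induction_on hw (fun c hc v hv => ?_) (fun a b ⟨a', ha, ea⟩ ⟨b', hb, eb⟩ =>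
    ⟨a' + b', fun i => add_mem (ha i) (hb i), by
      rw [ea, eb, ← Finset.sum_add_distrib]; exact Finset.sum_congr rfl fun i _ => (mul_add _ _ _).symm⟩)
  rw [P.m_span, Ideal.map_span, ← Set.range_comp] at hc
  obtain ⟨s, hs⟩ := Ideal.mem_span_range_iff_exists_fun.1 hc
  refine ⟨fun i => s i * v, fun i => Ideal.mul_mem_left _ _ hv, ?_⟩
  rw [← hs, Finset.sum_mul]
  exact Finset.sum_congr rfl fun i _ => by simp only [Function.comp_apply]; ring

/-- The module of lifted equations, on `X`. -/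
abbrev bigMod : X.Modules :=
  (Scheme.Modules.pushforward (pullback.fst x (specOver P.src))).obj (ClSub.idealMod P.big)

/-- A section of the module of lifted equations as a function. -/
def val (U : X.affineOpens) (s : Γ(P.bigMod, U.1)) : Sec x P.src U :=
  OmegaSh.idealSect P.big (pre x P.src U).1 s

theorem val_mem (U : X.affineOpens) (s : Γ(P.bigMod, U.1)) : P.val U s ∈ P.big.ideal (pre x P.src U) :=
  Groth.OmegaSheaf.idealSect_mem P.big (pre x P.src U) s

theorem exists_val {U : X.affineOpens} {g : Sec x P.src U} (hg : g ∈ P.big.ideal (pre x P.src U)) :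
    ∃ s : Γ(P.bigMod, U.1), P.val U s = g := by
  obtain ⟨s, hs⟩ := Groth.OmegaSheaf.exists_idealSect P.big (pre x P.src U) hg
  exact ⟨s, hs⟩

theorem val_injective (U : X.affineOpens) : Function.Injective (P.val U) :=
  Groth.OmegaSheaf.idealSect_injective P.big (pre x P.src U).1

theorem val_add (U : X.affineOpens) (a b : Γ(P.bigMod, U.1)) : P.val U (a + b) = P.val U a + P.val U b :=
  map_add _ _ _

theorem val_zero (U : X.affineOpens) : P.val U 0 = 0 := map_zero _

theorem val_sum (U : X.affineOpens) {ι : Type} (s : Finset ι) (a : ι → Γ(P.bigMod, U.1)) :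
    P.val U (∑ i ∈ s, a i) = ∑ i ∈ s, P.val U (a i) :=
  map_sum _ _ _

theorem val_smul (U : X.affineOpens) (c : Γ(X, U.1)) (s : Γ(P.bigMod, U.1)) :
    P.val U (c • s) = sect x P.src U c * P.val U s := by
  refine (Groth.OmegaSheaf.idealSect_smul P.big _ _ s).trans ?_
  exact congrArg (· * P.val U s) (ConcreteCategory.congr_hom
    (Scheme.Hom.app_eq_appLE (f := pullback.fst x (specOver P.src)) (U := U.1)) c)

theorem val_res {U W : X.affineOpens} (h : W.1 ≤ U.1) (s : Γ(P.bigMod, U.1)) :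
    P.val W (Groth.PicAux.res P.bigMod h s) = resX _ (pre_mono x P.src h) (P.val U s) :=
  Groth.OmegaSheaf.idealSect_res P.big (pre_mono x P.src h) s

/-- A morphism into the module of lifted equations, given by functions on charts. -/
theorem exists_hom_to_big {L : X.Modules} (φ : ∀ U : X.affineOpens, Γ(L, U.1) → Sec x P.src U)
    (hmem : ∀ U a, φ U a ∈ P.big.ideal (pre x P.src U))
    (hadd : ∀ U a b, φ U (a + b) = φ U a + φ U b)
    (hsmul : ∀ (U : X.affineOpens) (c : Γ(X, U.1)) a, φ U (c • a) = sect x P.src U c * φ U a)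
    (hres : ∀ {U W : X.affineOpens} (h : W.1 ≤ U.1) a,
      resX _ (pre_mono x P.src h) (φ U a) = φ W (Groth.PicAux.res L h a)) :
    ∃ Φ : L ⟶ P.bigMod, ∀ (U : X.affineOpens) a, P.val U (Φ.app U.1 a) = φ U a := by
  choose g hg using fun (U : X.affineOpens) (a : Γ(L, U.1)) => P.exists_val (hmem U a)
  obtain ⟨Φ, hΦ⟩ := Groth.LocFree.exists_hom_of_affine (L := L) (M := P.bigMod)
    (fun V hV =>
    { toFun := fun a => g ⟨V, hV⟩ a
      map_add' := fun a b => P.val_injective ⟨V, hV⟩ (by rw [val_add, hg, hg, hg, hadd])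
      map_smul' := fun c a => P.val_injective ⟨V, hV⟩ (by
        rw [RingHom.id_apply, P.val_smul ⟨V, hV⟩ c, hg, hg, hsmul]) })
    (fun V W hV hW hWV a => P.val_injective ⟨W, hW⟩ (by
      refine (P.val_res (U := ⟨V, hV⟩) (W := ⟨W, hW⟩) hWV _).trans ?_
      exact ((congrArg _ (hg ⟨V, hV⟩ a)).trans (hres (U := ⟨V, hV⟩) (W := ⟨W, hW⟩) hWV a)).trans (hg _ _).symm))
  exact ⟨Φ, fun U a => (congrArg (P.val U) (hΦ U.1 U.2 a)).trans (hg U a)⟩

theorem exists_coefHom (c : P.src) :
    ∃ Φ : P.bigMod ⟶ P.bigMod, ∀ (U : X.affineOpens) a, P.val U (Φ.app U.1 a) = coef x P.src U c * P.val U a :=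
  P.exists_hom_to_big (fun U a => coef x P.src U c * P.val U a)
    (fun U a => Ideal.mul_mem_left _ _ (P.val_mem U a))
    (fun U a b => by rw [val_add, mul_add])
    (fun U f a => by rw [val_smul]; ring)
    (fun {U W} h a => by rw [map_mul, coef_res' x P.src h, P.val_res h])

/-- Multiplication by a constant. -/
def coefHom (c : P.src) : P.bigMod ⟶ P.bigMod := (P.exists_coefHom c).choose

theorem val_coefHom (c : P.src) (U : X.affineOpens) (a : Γ(P.bigMod, U.1)) :
    P.val U ((P.coefHom c).app U.1 a) = coef x P.src U c * P.val U a :=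
  (P.exists_coefHom c).choose_spec U a

theorem exists_kerHom (j : Fin n) :
    ∃ Φ : Coh.structureModule X ⟶ P.bigMod, ∀ (U : X.affineOpens) (f : Γ(Coh.structureModule X, U.1)),
      P.val U (Φ.app U.1 f) = coef x P.src U (P.t j) * sect x P.src U (Groth.PicAux.toFun f) :=
  P.exists_hom_to_big (fun U f => coef x P.src U (P.t j) * sect x P.src U (Groth.PicAux.toFun f))
    (fun U f => P.coef_t_mem U j _)
    (fun U a b => by rw [show Groth.PicAux.toFun (a + b) = Groth.PicAux.toFun a + Groth.PicAux.toFun b from rfl, map_add, mul_add])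
    (fun U c f => by rw [Groth.PicAux.toFun_smul, map_mul]; ring)
    (fun {U W} h f => by rw [map_mul, coef_res' x P.src h, sect_res x P.src h, Groth.PicAux.toFun_res])

/-- A kernel element as a section of the lifted equations. -/
def kerHom (j : Fin n) : Coh.structureModule X ⟶ P.bigMod := (P.exists_kerHom j).choose

theorem val_kerHom (j : Fin n) (U : X.affineOpens) (f : Γ(Coh.structureModule X, U.1)) :
    P.val U ((P.kerHom j).app U.1 f) = coef x P.src U (P.t j) * sect x P.src U (Groth.PicAux.toFun f) :=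
  (P.exists_kerHom j).choose_spec U f

theorem exists_fibHom : ∃ Φ : P.bigMod ⟶ ClSub.idealMod I₀, ∀ (U : X.affineOpens) a,
    OmegaSh.idealSect I₀ U.1 (Φ.app U.1 a) = fib x P.src U (P.val U a) := by
  choose g hg using fun (U : X.affineOpens) (a : Γ(P.bigMod, U.1)) =>
    Groth.OmegaSheaf.exists_idealSect I₀ U (P.fib_mem_of_mem_big (P.val_mem U a))
  obtain ⟨Φ, hΦ⟩ := Groth.LocFree.exists_hom_of_affine (L := P.bigMod) (M := ClSub.idealMod I₀)
    (fun V hV =>
    { toFun := fun a => g ⟨V, hV⟩ a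
      map_add' := fun a b => Groth.OmegaSheaf.idealSect_injective I₀ V (by
        rw [map_add, hg ⟨V, hV⟩, hg ⟨V, hV⟩, hg ⟨V, hV⟩, val_add, map_add])
      map_smul' := fun c a => Groth.OmegaSheaf.idealSect_injective I₀ V (by
        rw [RingHom.id_apply, Groth.OmegaSheaf.idealSect_smul, hg ⟨V, hV⟩, hg ⟨V, hV⟩, P.val_smul ⟨V, hV⟩ c, map_mul, fib_sect]) })
    (fun V W hV hW hWV a => Groth.OmegaSheaf.idealSect_injective I₀ W (by
      refine (Groth.OmegaSheaf.idealSect_res I₀ hWV _).trans ?_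
      change resX X hWV (OmegaSh.idealSect I₀ V (g ⟨V, hV⟩ a)) = OmegaSh.idealSect I₀ W (g ⟨W, hW⟩ _)
      rw [hg ⟨V, hV⟩, hg ⟨W, hW⟩, ← fib_res' x P.src (U := ⟨V, hV⟩) (W := ⟨W, hW⟩) hWV, P.val_res (U := ⟨V, hV⟩) (W := ⟨W, hW⟩) hWV]))
  exact ⟨Φ, fun U a => (congrArg _ (hΦ U.1 U.2 a)).trans (hg U a)⟩

/-- Restriction of lifted equations to the closed fibre. -/
def fibHom : P.bigMod ⟶ ClSub.idealMod I₀ := P.exists_fibHom.choose

theorem val_fibHom (U : X.affineOpens) (a : Γ(P.bigMod, U.1)) :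
    OmegaSh.idealSect I₀ U.1 (P.fibHom.app U.1 a) = fib x P.src U (P.val U a) :=
  P.exists_fibHom.choose_spec U a

theorem fibHom_surjective (U : X.affineOpens) : Function.Surjective (P.fibHom.app U.1) := fun k' => by
  obtain ⟨g, hg, hgk⟩ := P.exists_mem_big (Groth.OmegaSheaf.idealSect_mem I₀ U k')
  obtain ⟨a, rfl⟩ := P.exists_val hg
  exact ⟨a, Groth.OmegaSheaf.idealSect_injective I₀ U.1 ((P.val_fibHom U a).trans hgk)⟩

theorem kerHom_fibHom (j : Fin n) : P.kerHom j ≫ P.fibHom = 0 :=
  hom_ext_affine fun U f => Groth.OmegaSheaf.idealSect_injective I₀ U.1 (by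
    change OmegaSh.idealSect I₀ U.1 (P.fibHom.app U.1 ((P.kerHom j).app U.1 f)) = OmegaSh.idealSect I₀ U.1 0
    rw [val_fibHom, val_kerHom, map_mul, P.fib_coef_eq_zero U (P.t_mem j), zero_mul, map_zero])

theorem coefHom_fibHom (i : Fin d) : P.coefHom (P.m i) ≫ P.fibHom = 0 :=
  hom_ext_affine fun U a => Groth.OmegaSheaf.idealSect_injective I₀ U.1 (by
    change OmegaSh.idealSect I₀ U.1 (P.fibHom.app U.1 ((P.coefHom (P.m i)).app U.1 a)) = OmegaSh.idealSect I₀ U.1 0
    rw [val_fibHom, val_coefHom, map_mul, P.fib_coef_eq_zero U (P.m_mem i), zero_mul, map_zero])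

/-- A morphism killing the kernel and the maximal ideal vanishes on equations vanishing on the fibre. -/
theorem app_eq_zero_of_fib {Z : X.Modules} (ψ : P.bigMod ⟶ Z) (hm : ∀ i, P.coefHom (P.m i) ≫ ψ = 0)
    (ht : ∀ j, P.kerHom j ≫ ψ = 0) (U : X.affineOpens) (a : Γ(P.bigMod, U.1))
    (h0 : fib x P.src U (P.val U a) = 0) : ψ.app U.1 a = 0 := by
  obtain ⟨g, f, hg, e⟩ := P.exists_decomp (P.val_mem U a) h0
  choose b hb using fun i => P.exists_val (hg i)
  have e' : a = ∑ i, (P.coefHom (P.m i)).app U.1 (b i) +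
      ∑ j, (P.kerHom j).app U.1 (ofFun (f j)) := P.val_injective U (by
    rw [e, val_add, val_sum, val_sum]
    simp only [val_coefHom, val_kerHom, hb, toFun_ofFun])
  rw [e', map_add, map_sum, map_sum, Finset.sum_eq_zero, Finset.sum_eq_zero, add_zero]
  · intro j _
    exact congr(($(ht j)).app U.1 (ofFun (f j)))
  · intro i _
    exact congr(($(hm i)).app U.1 (b i))

/-- Morphisms killing the kernel and the maximal ideal descend to the closed fibre. -/
theorem exists_desc {Z : X.Modules} (ψ : P.bigMod ⟶ Z) (hm : ∀ i, P.coefHom (P.m i) ≫ ψ = 0)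
    (ht : ∀ j, P.kerHom j ≫ ψ = 0) : ∃ φ : ClSub.idealMod I₀ ⟶ Z, P.fibHom ≫ φ = ψ := by
  choose g hg using fun U : X.affineOpens => P.fibHom_surjective U
  have key : ∀ (U : X.affineOpens) a b, P.fibHom.app U.1 a = P.fibHom.app U.1 b → ψ.app U.1 a = ψ.app U.1 b := by
    intro U a b e
    rw [← sub_eq_zero, ← map_sub]
    refine P.app_eq_zero_of_fib ψ hm ht U _ ?_
    rw [← val_fibHom, map_sub, e, sub_self, map_zero]
  obtain ⟨φ, hφ⟩ := Groth.LocFree.exists_hom_of_affine (L := ClSub.idealMod I₀) (M := Z)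
    (fun V hV =>
    { toFun := fun k' => ψ.app V (g ⟨V, hV⟩ k')
      map_add' := fun a b => by
        rw [← map_add]; exact key ⟨V, hV⟩ _ _ (by rw [hg ⟨V, hV⟩, map_add, hg ⟨V, hV⟩, hg ⟨V, hV⟩])
      map_smul' := fun c a => by
        rw [RingHom.id_apply, ← Scheme.Modules.Hom.app_smul]
        exact key ⟨V, hV⟩ _ _ (by rw [hg ⟨V, hV⟩, Scheme.Modules.Hom.app_smul, hg ⟨V, hV⟩]) })
    (fun V W hV hW hWV a => by
      refine (Groth.PicAux.app_res ψ hWV _).symm.trans ?_
      exact key ⟨W, hW⟩ _ _ (by rw [Groth.PicAux.app_res, hg ⟨V, hV⟩, hg ⟨W, hW⟩]))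
  exact ⟨φ, hom_ext_affine fun U a => (hφ U.1 U.2 _).trans (key U _ _ (hg U _))⟩

theorem fibHom_ext {Z : X.Modules} {φ φ' : ClSub.idealMod I₀ ⟶ Z} (h : P.fibHom ≫ φ = P.fibHom ≫ φ') :
    φ = φ' := hom_ext_affine fun U k' => by
  obtain ⟨a, rfl⟩ := P.fibHom_surjective U k'
  exact congr(($h).app U.1 a)

/-- The extension of the ideal of the closed fibre: lifted equations modulo the maximal ideal. -/
abbrev ext : X.Modules := cokernel (biproduct.desc fun i : Fin d => P.coefHom (P.m i))

/-- The projection to the extension. -/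
def proj : P.bigMod ⟶ P.ext := cokernel.π _

instance epi_proj : Epi P.proj := inferInstanceAs (Epi (cokernel.π _))

theorem coefHom_proj (i : Fin d) : P.coefHom (P.m i) ≫ P.proj = 0 := by
  have h := congrArg (biproduct.ι (fun _ : Fin d => P.bigMod) i ≫ ·)
    (cokernel.condition (biproduct.desc fun i : Fin d => P.coefHom (P.m i)))
  simpa only [comp_zero, biproduct.ι_desc_assoc, proj] using h

theorem exists_extDesc {Z : X.Modules} (ψ : P.bigMod ⟶ Z) (hm : ∀ i, P.coefHom (P.m i) ≫ ψ = 0) :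
    ∃ φ : P.ext ⟶ Z, P.proj ≫ φ = ψ :=
  ⟨cokernel.desc _ ψ (biproduct.hom_ext' _ _ fun i => by rw [biproduct.ι_desc_assoc, hm, comp_zero]),
    cokernel.π_desc _ _ _⟩

/-- The kernel inside the extension. -/
def tau : (⨁ fun _ : Fin n => Coh.structureModule X) ⟶ P.ext :=
  biproduct.desc fun j => P.kerHom j ≫ P.proj

/-- The extension maps to the ideal of the closed fibre. -/
def fst : P.ext ⟶ ClSub.idealMod I₀ := (P.exists_extDesc P.fibHom P.coefHom_fibHom).choose

theorem proj_fst : P.proj ≫ P.fst = P.fibHom := (P.exists_extDesc P.fibHom P.coefHom_fibHom).choose_spec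

theorem ι_tau (j : Fin n) : biproduct.ι (fun _ : Fin n => Coh.structureModule X) j ≫ P.tau = P.kerHom j ≫ P.proj :=
  biproduct.ι_desc _ j

theorem tau_fst : P.tau ≫ P.fst = 0 := biproduct.hom_ext' _ _ fun j => by
  rw [← Category.assoc, ι_tau, Category.assoc, proj_fst, kerHom_fibHom, comp_zero]

theorem exists_desc_ext {Z : X.Modules} (ψ : P.ext ⟶ Z) (h : P.tau ≫ ψ = 0) :
    ∃ φ : ClSub.idealMod I₀ ⟶ Z, P.fst ≫ φ = ψ := by
  obtain ⟨φ, hφ⟩ := P.exists_desc (P.proj ≫ ψ) (fun i => by rw [← Category.assoc, coefHom_proj, zero_comp])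
    (fun j => by rw [← Category.assoc, ← ι_tau, Category.assoc, h, comp_zero])
  exact ⟨φ, (cancel_epi P.proj).1 (by rw [← Category.assoc, proj_fst, hφ])⟩

/-- The ideal of the closed fibre is the cokernel of the kernel in the extension. -/
def isColimit : IsColimit (CokernelCofork.ofπ P.fst P.tau_fst) :=
  CokernelCofork.IsColimit.ofπ _ _ (fun ψ h => (P.exists_desc_ext ψ h).choose)
    (fun ψ h => (P.exists_desc_ext ψ h).choose_spec)
    (fun ψ h φ hφ => P.fibHom_ext (by
      rw [← proj_fst, Category.assoc, Category.assoc, hφ, (P.exists_desc_ext ψ h).choose_spec]))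

end Problem

end Groth.ArtfunDeform.HilbObs
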