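import Groth.Agent.ArtfunDeform.HilbObs.Theory
import Groth.Agent.ArtfunDeform.HilbObs.Immersion
import Groth.Agent.ArtfunDeform.HilbTangentLinear
import Groth.Agent.ArtfunDeform.Prorep
import Groth.Agent.CohTwo.HomDepth
import Groth.Agent.EulerDeg.Coherent
import Groth.Agent.RefRank.DivSheaf
import Groth.Agent.Variety2.ProjBasics
import Groth.Agent.QCohMod.Coherent
import Groth.Agent.QCohMod.PullbackQCoh
import Groth.Agent.SiteCohomology.SchemeModules
import Mathlib.Algebra.Homology.DerivedCategory.Ext.MapBijective

/-!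
The obstruction theory of a regular closed immersion with values in the first cohomology of the normal sheaf.
-/

set_option linter.style.longLine false

noncomputable section

universe u

open CategoryTheory CategoryTheory.Limits AlgebraicGeometry
open ArtFun ArtFun.Art

namespace Groth.ArtfunDeform.HilbObs

attribute [local instance] Abelian.hasFiniteBiproducts

variable {k : Type u} [Field k]

/-- Changing the arguments of an Ext group by isomorphisms. -/
def extCongr {Z : Scheme.{u}} [Z.Over (Spec (CommRingCat.of k))] [HasExt.{u} Z.Modules] {M M' O O' : Z.Modules}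
    (e : M ≅ M') (f : O ≅ O') (i : ℕ) : Abelian.Ext.{u} M O i ≃ₗ[k] Abelian.Ext.{u} M' O' i :=
  LinearEquiv.ofLinearMap
    ((Abelian.Ext.bilinearCompOfLinear k M' M O' 0 i i (zero_add i) (Abelian.Ext.mk₀ e.inv)).comp
      ((Abelian.Ext.bilinearCompOfLinear k M O O' i 0 i (add_zero i)).flip (Abelian.Ext.mk₀ f.hom)))
    ((Abelian.Ext.bilinearCompOfLinear k M M' O 0 i i (zero_add i) (Abelian.Ext.mk₀ e.hom)).comp
      ((Abelian.Ext.bilinearCompOfLinear k M' O' O i 0 i (add_zero i)).flip (Abelian.Ext.mk₀ f.inv)))
    (LinearMap.ext fun a => by simp)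
    (LinearMap.ext fun a => by simp)

theorem linear_pullback {Z Y : Scheme.{u}} [Z.Over (Spec (CommRingCat.of k))] [Y.Over (Spec (CommRingCat.of k))]
    (e : Z ⟶ Y) [e.IsOver (Spec (CommRingCat.of k))] : (Scheme.Modules.pullback e).Linear k := by
  let adj := Scheme.Modules.pullbackPushforwardAdjunction e
  refine ⟨fun {M N} f a => (adj.homEquiv _ _).injective ?_⟩
  rw [Adjunction.homEquiv_unit, Adjunction.homEquiv_unit, Functor.map_smul (Scheme.Modules.pushforward e),
    Linear.comp_smul]
  erw [← adj.unit.naturality, ← adj.unit.naturality]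
  exact Linear.smul_comp _ _ _ a f _

variable {X Z : Scheme.{u}} {x : X ⟶ specPt k} (i : Z ⟶ X) [IsClosedImmersion i] [Z.Over (Spec (CommRingCat.of k))]

/-- A regular closed immersion has an obstruction theory in the first cohomology of its normal sheaf. -/
theorem hasObsTheory_immersion (hi : i ≫ x = Z ↘ Spec (CommRingCat.of k))
    (hreg : Mor2.IsRegularClosedImmersion i) [DCoh.HasSheafHom (Omega.conormal i)] :
    HasObsTheory (ArtFun.localHilb X x i.ker)
      (Coh.HH Z ((DCoh.sheafHom (Omega.conormal i)).obj (Coh.structureModule Z)) 1) := by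
  obtain ⟨e, he, heι⟩ : ∃ e : Z ⟶ i.ker.subscheme, IsIso e ∧ e ≫ i.ker.subschemeι = i :=
    ⟨i.toImage, inferInstance, i.toImage_imageι⟩
  have := he
  let _ : X.Over (Spec (CommRingCat.of k)) := ⟨x⟩
  let _ : i.ker.subscheme.Over (Spec (CommRingCat.of k)) := ⟨i.ker.subschemeι ≫ x⟩
  have : i.ker.subschemeι.IsOver (Spec (CommRingCat.of k)) := ⟨rfl⟩
  have : e.IsOver (Spec (CommRingCat.of k)) :=
    ⟨((Category.assoc _ _ _).symm.trans (congrArg (· ≫ x) heι)).trans hi⟩
  have : HasExt.{u} Z.Modules := inferInstance
  have : HasExt.{u} i.ker.subscheme.Modules := inferInstance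
  let F := Scheme.Modules.pullback e
  have hF : F.IsEquivalence := isEquivalence_pullback e
  have : PreservesFiniteLimits F := inferInstance
  have : PreservesFiniteColimits F := inferInstance
  have : F.Additive := (Scheme.Modules.pullbackPushforwardAdjunction e).left_adjoint_additive
  have : F.Linear k := linear_pullback e
  have : IsIso (Groth.PicAux.pullUnit e) := Groth.PicAux.isIso_pullUnit e
  let N := (Scheme.Modules.pullback i.ker.subschemeι).obj (ClSub.idealMod i.ker)
  let e₁ : Omega.conormal i ≅ F.obj N :=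
    (Scheme.Modules.pullbackCongr heι.symm).app (ClSub.idealMod i.ker) ≪≫
      ((Scheme.Modules.pullbackComp e i.ker.subschemeι).app (ClSub.idealMod i.ker)).symm
  let m := F.mapExtLinearMap k N (Coh.structureModule i.ker.subscheme) 1
  have hm : Function.Bijective m := Functor.mapExt_bijective_of_preservesInjectiveObjects F _ _ _
  obtain ⟨g⟩ := Groth.Duality.SheafHom.nonempty_ext_linearEquiv (A := k) _ (isFinLocFree_conormal_immersion i hreg) 1
    (Coh.structureModule Z)
  exact Groth.ArtfunDeform.hasObsTheory_congr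
    (((LinearEquiv.ofBijective m hm).trans (extCongr e₁.symm (asIso (Groth.PicAux.pullUnit e)) 1)).trans g)
    (hasObsTheory_ext rfl (fun P => P.locallyLiftable_of_regular (isRegularClosedImmersion_kerι i hreg)))

omit [IsClosedImmersion i] in
theorem isCoh_normal [IsLocallyNoetherian X] [IsLocallyNoetherian Z] [DCoh.HasSheafHom (Omega.conormal i)] :
    Coh.IsCoh ((DCoh.sheafHom (Omega.conormal i)).obj (Coh.structureModule Z)) := by
  have hI := Groth.RefRank.isCoh_idealMod i.ker
  have hN : Coh.IsCoh (Omega.conormal i) := by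
    have := hI.1
    exact ⟨Groth.QCohMod.isQCoh_pullback_obj i _, Groth.QCohMod.isFT_pullback i _ hI.2⟩
  exact Groth.CohTwo.HomDepth.isCoh_sheafHom hN Groth.QCohMod.isCoh_unit

end Groth.ArtfunDeform.HilbObs
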